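import Cfsg.Agent.Lib.PRg.Defs
import Cfsg.Agent.Lib.WCor4.Aff

/-! PRG, package AFF: affine groups of prime degree and Frobenius complements. -/

set_option autoImplicit false
set_option linter.unusedSectionVars false

namespace CfsgLib.PRg

open Subgroup

variable {X : Type*} [Group X] [Finite X]

theorem exists_aff (p : ℕ) [Fact p.Prime] (V H : Subgroup X) [V.Normal] (hV : Nat.card V = p)
    (hC : Subgroup.centralizer (V : Set X) ≤ V) (hH : V.IsComplement' H) :
    ∃ f : X →* Cfsg.affineGroup (ZMod p), Function.Injective f := by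
  have := isCyclic_of_prime_card hV
  let e : Multiplicative (ZMod p) ≃* V := mulEquivOfCyclicCardEq (by simp [hV])
  have bij : Function.Bijective fun a : ZMod p => ((e (.ofAdd a) : X) : X ⧸ H) := by
    refine (Nat.bijective_iff_injective_and_card _).2 ⟨fun a b k => ?_, ?_⟩
    · have k1 := QuotientGroup.eq.1 k
      have := disjoint_def.1 hH.disjoint (mul_mem (inv_mem (e (.ofAdd a)).2) (e (.ofAdd b)).2) k1
      exact e.injective (Subtype.ext (inv_mul_eq_one.1 this))
    · rw [Nat.card_zmod, ← index_eq_card, hH.index_eq_card, hV]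
  let ε := Equiv.ofBijective _ bij
  let f : X →* Equiv.Perm (ZMod p) := ε.symm.permCongrHom.toMonoidHom.comp (MulAction.toPermHom X (X ⧸ H))
  have hf : ∀ x a b, f x a = b ↔ ((x * e (.ofAdd a) : X) : X ⧸ H) = (e (.ofAdd b) : X) := fun x a b =>
    ε.symm_apply_eq
  refine ⟨f.codRestrict _ fun x => ?_, (injective_iff_map_eq_one _).2 fun x hx => ?_⟩
  · obtain ⟨⟨v, h⟩, rfl⟩ := hH.2 x
    let φ : ZMod p →+ ZMod p := AddMonoidHom.mk'
      (fun a => (e.symm (MulAut.conjNormal (h : X) (e (.ofAdd a)))).toAdd) fun a b => by simp [ofAdd_add]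
    have hφ : ∀ a, (e (.ofAdd (φ a)) : X) = h * e (.ofAdd a) * (h : X)⁻¹ := fun a => by simp [φ]
    have lin : ∀ a, φ a = φ 1 * a := fun a => by
      conv_lhs => rw [← ZMod.natCast_zmod_val a, ← nsmul_one, map_nsmul]
      rw [nsmul_eq_mul, ZMod.natCast_zmod_val, mul_comm]
    have h0 : φ 1 ≠ 0 := fun k => by
      have := hφ 1
      rw [k, ofAdd_zero, map_one, OneMemClass.coe_one, eq_comm, conj_eq_one_iff, OneMemClass.coe_eq_one,
        e.map_eq_one_iff] at this
      exact one_ne_zero (ofAdd_eq_one.1 this)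
    refine ⟨Units.mk0 _ h0, (e.symm v).toAdd, fun a => (hf _ _ _).2 (QuotientGroup.eq.2 ?_)⟩
    rw [Units.val_mk0, ← lin, add_comm, ofAdd_add, map_mul, ofAdd_toAdd, e.apply_symm_apply, coe_mul, hφ]
    simp [mul_assoc]
  · have k : ∀ a, (x * e (.ofAdd a))⁻¹ * e (.ofAdd a) ∈ H := fun a =>
      QuotientGroup.eq.1 ((hf x a a).1 (DFunLike.congr_fun (congrArg Subtype.val hx) a))
    have xH : x ∈ H := by simpa using k 0
    refine disjoint_def.1 hH.disjoint (hC fun v hv => ?_) xH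
    obtain ⟨a, ha⟩ := e.surjective ⟨v, hv⟩
    have k1 := k a.toAdd
    rw [ofAdd_toAdd, ha] at k1
    have := disjoint_def.1 hH.disjoint (x := (x * v)⁻¹ * v * x) (by
      simpa [mul_assoc] using mul_mem (inv_mem hv) (‹V.Normal›.conj_mem v hv x⁻¹)) (mul_mem k1 xH)
    rw [mul_assoc, inv_mul_eq_one] at this
    exact this.symm

theorem isFrob (V H : Subgroup X) [V.Normal] (hH : V.IsComplement' H) (hV : V ≠ ⊥) (h0 : H ≠ ⊥)
    (hf : ∀ h ∈ H, h ≠ 1 → ∀ v ∈ V, h * v = v * h → v = 1) : Cfsg.IsFrobeniusComplement H := by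
  refine ⟨h0, fun e => hV (by simpa [e] using hH.disjoint), fun g hg => eq_bot_iff.2 fun x hx => ?_⟩
  obtain ⟨⟨v, h⟩, rfl⟩ := hH.2 g
  by_contra x1
  have k : ((v : X) * h)⁻¹ * x * (v * h) ∈ H := by
    simpa [mul_assoc] using mem_pointwise_smul_iff_inv_smul_mem.1 hx.2
  have := disjoint_def.1 hH.disjoint (x := (v : X)⁻¹ * (x * v * x⁻¹))
    (mul_mem (inv_mem v.2) (‹V.Normal›.conj_mem _ v.2 x))
    (by simpa [mul_assoc] using mul_mem (mul_mem (mul_mem h.2 k) (inv_mem h.2)) (inv_mem hx.1))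
  rw [inv_mul_eq_one, eq_mul_inv_iff_mul_eq] at this
  exact hg (by simp [hf x hx.1 x1 v v.2 this.symm])

end CfsgLib.PRg
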