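import Cfsg.Agent.Lib.PRg.Defs
import Cfsg.Agent.Lib.KgT.Lift

/-! PRG, package BAS: elementary facts. -/

set_option autoImplicit false

namespace CfsgLib.PRg

open CfsgLib.KgT

theorem bas_kk_comm (A : Type*) [Group A] [IsMulCommutative A] : kk A = Nat.card A :=
  (Nat.card_eq_of_bijective ConjClasses.mk ⟨fun a b e => by
    obtain ⟨c, hc⟩ := isConj_iff.1 (ConjClasses.mk_eq_mk_iff_isConj.1 e)
    rw [← hc, mul_comm' c a, mul_inv_cancel_right], ConjClasses.mk_surjective⟩).symm

theorem Ab.card_le {G : Type*} [Group G] [Finite G] {i : ℕ} (h : Ab G i) :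
    Nat.card G ≤ i ^ 2 * kk G := by
  obtain ⟨A, hA, hi⟩ := h
  have h1 := Fgs.card_conjClasses_subgroup_le A
  have h2 := bas_kk_comm A
  rw [kk] at h2
  rw [h2] at h1
  calc Nat.card G = Nat.card A * A.index := A.card_mul_index.symm
    _ ≤ A.index * kk G * A.index := Nat.mul_le_mul_right _ h1
    _ ≤ i * kk G * i := by gcongr
    _ = i ^ 2 * kk G := by ring

theorem card_center_le_kk (G : Type*) [Group G] [Finite G] :
    Nat.card (Subgroup.center G) ≤ kk G := by
  refine Nat.card_le_card_of_injective (fun z => ConjClasses.mk z.1) fun a b e => ?_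
  obtain ⟨c, hc⟩ := isConj_iff.1 (ConjClasses.mk_eq_mk_iff_isConj.1 e)
  refine Subtype.ext ?_
  rw [← hc, Subgroup.mem_center_iff.1 a.2 c, mul_inv_cancel_right]

theorem three_le_kk {G : Type*} [Group G] [Finite G] (h : 3 ≤ Nat.card G) : 3 ≤ kk G := by
  classical
  by_contra lt
  have : Nontrivial G := Finite.one_lt_card_iff_nontrivial.1 (by omega)
  obtain ⟨x, hx⟩ := exists_ne (1 : G)
  have h1 : MulAction.orbit (ConjAct G) x = {1}ᶜ := by
    ext y
    rw [ConjAct.mem_orbit_conjAct]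
    refine ⟨fun c e => hx (by rw [Set.mem_singleton_iff.1 e] at c; simpa [eq_comm] using c), fun hy => ?_⟩
    by_contra nc
    have := Fintype.ofFinite (ConjClasses G)
    have h2 : ({ConjClasses.mk 1, ConjClasses.mk x, ConjClasses.mk y} : Finset (ConjClasses G)).card
        = 3 := by
      refine Finset.card_eq_three.2 ⟨_, _, _, ?_, ?_, ?_, rfl⟩ <;>
        rw [Ne, ConjClasses.mk_eq_mk_iff_isConj]
      · simpa [eq_comm] using hx
      · simpa [eq_comm] using hy
      · exact fun c => nc c.symm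
    exact lt (by rw [kk, Nat.card_eq_fintype_card, ← h2]; exact Finset.card_le_univ _)
  have h2 := (MulAction.stabilizer (ConjAct G) x).index_dvd_card
  rw [MulAction.index_stabilizer, h1, Set.ncard_compl, Set.ncard_singleton,
    show Nat.card (ConjAct G) = Nat.card G from rfl] at h2
  have h3 : Nat.card G - 1 ∣ Nat.card G - (Nat.card G - 1) := Nat.dvd_sub h2 dvd_rfl
  have := Nat.le_of_dvd (by omega) h3
  omega

theorem card_le_kk {G : Type*} [Group G] [Finite G] (S : Finset ℕ)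
    (h : ∀ m ∈ S, ∃ g : G, m ∣ orderOf g) : S.card ≤ kk G := by
  have h1 : ∀ m : S, ∃ g : G, orderOf g = m := fun m => by
    obtain ⟨g, hg⟩ := h m m.2
    exact ⟨_, orderOf_pow_orderOf_div (orderOf_pos g).ne' hg⟩
  choose f hf using h1
  rw [← Fintype.card_coe, ← Nat.card_eq_fintype_card]
  refine Nat.card_le_card_of_injective (fun m => ConjClasses.mk (f m)) fun a b e => ?_
  obtain ⟨c, hc⟩ := isConj_iff.1 (ConjClasses.mk_eq_mk_iff_isConj.1 e)
  refine Subtype.ext ?_
  rw [← hf, ← hf, ← hc]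
  exact ((MulAut.conj c).orderOf_eq (f a)).symm

variable {G V : Type*} [Group G] [AddCommGroup V] [DistribMulAction G V] [Finite G] [Finite V]
  {p n : ℕ}

theorem Cp.nontrivial (h : Cp G V p n) : Nontrivial V := by
  rw [← Finite.one_lt_card_iff_nontrivial, h.card]
  exact Nat.one_lt_pow h.pos.ne' h.prime.one_lt

theorem Cp.card_sub (h : Cp G V p n) (W : AddSubgroup V) : ∃ j ≤ n, Nat.card W = p ^ j :=
  (Nat.dvd_prime_pow h.prime).1 (h.card ▸ W.card_addSubgroup_dvd_card)

/-- the action as a representation over the prime field -/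
def basRep (G V : Type*) [Group G] [AddCommGroup V] [DistribMulAction G V] (p : ℕ)
    [Module (ZMod p) V] : Representation (ZMod p) G V where
  toFun g := (DistribSMul.toAddMonoidHom V g).toZModLinearMap p
  map_one' := LinearMap.ext fun v => one_smul G v
  map_mul' a b := LinearMap.ext fun v => mul_smul a b v

omit [Finite G] [Finite V] in
@[simp] theorem basRep_apply [Module (ZMod p) V] (g : G) (v : V) : basRep G V p g v = g • v := rfl

theorem Cp.finrank (h : Cp G V p n) [Fact p.Prime] [Module (ZMod p) V] :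
    Module.finrank (ZMod p) V = n := by
  have h1 := Module.natCard_eq_pow_finrank (K := ZMod p) (V := V)
  rw [h.card, Nat.card_zmod] at h1
  exact (Nat.pow_right_injective h.prime.two_le h1).symm

theorem Cp.hasRep_aux [FaithfulSMul G V] (h : Cp G V p n) [Fact p.Prime] [Module (ZMod p) V] :
    HasRep G n := by
  rw [← h.finrank]
  exact hasRep_of_rep p h.cop (basRep G V p) fun a b e =>
    FaithfulSMul.eq_of_smul_eq_smul (α := V) fun v => LinearMap.congr_fun e v

theorem Cp.hasRep [FaithfulSMul G V] (h : Cp G V p n) : HasRep G n :=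
  have := Fact.mk h.prime
  let _ := AddCommGroup.zmodModule h.exp
  h.hasRep_aux

theorem Cp.dvd_card (h : Cp G V p n) {M : ℕ} (hM : Dv G V M) : M ∣ Nat.card G := by
  have := h.nontrivial
  obtain ⟨v, hv⟩ := exists_ne (0 : V)
  exact (hM v hv).trans (Subgroup.index_dvd_card _)

omit [Finite G] [Finite V] in
theorem bas_ne_zero {v u : V} (hv : v ≠ 0) (hu : u ∈ MulAction.orbit G v) : u ≠ 0 := by
  obtain ⟨g, rfl⟩ := hu
  exact fun e => hv ((smul_eq_zero_iff_eq g).1 e)

omit [Finite G] [Finite V] in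
theorem bas_ncard_dvd (v : V) : (MulAction.orbit G v).ncard ∣ Nat.card G := by
  rw [← MulAction.index_stabilizer]; exact Subgroup.index_dvd_card _

omit [Finite G] [Finite V] in
/-- two vectors in different orbits represent the two orbits -/
theorem Tw.of_not_mem (ht : Tw G V) {a b : V} (ha : a ≠ 0) (hb : b ≠ 0)
    (ne : b ∉ MulAction.orbit G a) {u : V} (hu : u ≠ 0) :
    u ∈ MulAction.orbit G a ∨ u ∈ MulAction.orbit G b := by
  obtain ⟨v, w, -, -, -, hall⟩ := ht
  rcases hall a ha with h1 | h1 <;> rcases hall b hb with h2 | h2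
  · exact absurd (by rwa [MulAction.orbit_eq_iff.2 h1]) ne
  · rw [MulAction.orbit_eq_iff.2 h1, MulAction.orbit_eq_iff.2 h2]; exact hall u hu
  · rw [MulAction.orbit_eq_iff.2 h1, MulAction.orbit_eq_iff.2 h2]; exact (hall u hu).symm
  · exact absurd (by rwa [MulAction.orbit_eq_iff.2 h1]) ne

omit [Finite G] in
theorem Cp.add_eq (h : Cp G V p n) (ht : Tw G V) {a b : V} (ha : a ≠ 0) (hb : b ≠ 0)
    (ne : b ∉ MulAction.orbit G a) :
    (MulAction.orbit G a).ncard + (MulAction.orbit G b).ncard = p ^ n - 1 := by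
  have h1 : MulAction.orbit G a ∪ MulAction.orbit G b = {0}ᶜ := by
    ext u
    exact ⟨fun hu => hu.elim (bas_ne_zero ha) (bas_ne_zero hb), ht.of_not_mem ha hb ne⟩
  rw [← Set.ncard_union_eq (Set.disjoint_left.2 fun u h2 h3 => ne (by
    rw [← MulAction.orbit_eq_iff.2 h2, MulAction.orbit_eq_iff.2 h3]
    exact MulAction.mem_orbit_self b)), h1, Set.ncard_compl, Set.ncard_singleton, h.card]

theorem Cp.irr (h : Cp G V p n) (ht : Tw G V) : Irr G V := by
  intro W hW
  by_contra hc
  push Not at hc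
  obtain ⟨a, aW, ha⟩ := W.bot_or_exists_ne_zero.resolve_left hc.1
  obtain ⟨b, bW⟩ : ∃ b, b ∉ W := by
    by_contra hb
    push Not at hb
    exact hc.2 (eq_top_iff.2 fun x _ => hb x)
  have hb : b ≠ 0 := fun e => bW (e ▸ W.zero_mem)
  have h1 : ∀ u ∈ MulAction.orbit G a, u ∈ W := by rintro _ ⟨g, rfl⟩; exact hW g a aW
  have h2 : MulAction.orbit G b = (W : Set V)ᶜ := by
    ext u
    constructor
    · rintro ⟨g, rfl⟩ hu
      exact bW (by simpa using hW g⁻¹ _ hu)
    · intro hu
      exact (ht.of_not_mem (u := u) ha hb (fun e => bW (h1 b e))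
        fun e => hu (by rw [e]; exact W.zero_mem)).resolve_left
        fun e => hu (h1 u e)
  have h3 := bas_ncard_dvd (G := G) b
  obtain ⟨j, -, hj⟩ := h.card_sub W
  have j0 : j ≠ 0 := fun e => hc.1 (AddSubgroup.card_eq_one.1 (by rw [hj, e, pow_zero]))
  rw [h2, Set.ncard_compl, h.card, show (W : Set V).ncard = p ^ j from hj] at h3
  exact h.cop ((Nat.dvd_sub (dvd_pow_self p h.pos.ne') (dvd_pow_self p j0)).trans h3)

theorem Cp.card_le (h : Cp G V p n) (ht : Tw G V) : p ^ n - 1 ≤ 2 * Nat.card G := by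
  obtain ⟨v, w, hv, hw, ne, -⟩ := id ht
  rw [← h.add_eq ht hv hw ne, two_mul]
  exact Nat.add_le_add (Nat.le_of_dvd Nat.card_pos (bas_ncard_dvd v))
    (Nat.le_of_dvd Nat.card_pos (bas_ncard_dvd w))

omit [Finite G] [Finite V] in
theorem Cp.nsmul_eq_zero (h : Cp G V p n) {c : ℕ} {v : V} (hv : v ≠ 0) : c • v = 0 ↔ p ∣ c := by
  have := Fact.mk h.prime
  rw [← addOrderOf_dvd_iff_nsmul_eq_zero, addOrderOf_eq_prime (h.exp v) hv]

theorem Cp.sc_or (h : Cp G V p n) (ht : Tw G V) :
    Sc G V p ∨ ∃ M, 2 * M = p ^ n - 1 ∧ Dv G V M := by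
  refine or_iff_not_imp_left.2 fun hs => ?_
  obtain ⟨u, c, hc, ne⟩ : ∃ (u : V) (c : ℕ), ¬ p ∣ c ∧ c • u ∉ MulAction.orbit G u := by
    by_contra h1
    push Not at h1
    exact hs h1
  have hu : u ≠ 0 := fun e => ne (by rw [e, nsmul_zero]; exact MulAction.mem_orbit_self _)
  have nz : ∀ {v : V}, v ≠ 0 → c • v ≠ 0 := fun hv e => hc ((h.nsmul_eq_zero hv).1 e)
  have inj : Function.Injective fun v : V => c • v := fun a b e => by
    by_contra ab
    exact nz (sub_ne_zero.2 ab) (by rw [nsmul_sub]; exact sub_eq_zero.2 e)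
  have h1 : (fun v : V => c • v) '' MulAction.orbit G u = MulAction.orbit G (c • u) := by
    ext x
    constructor
    · rintro ⟨_, ⟨g, rfl⟩, rfl⟩
      exact ⟨g, smul_comm g c u⟩
    · rintro ⟨g, rfl⟩
      exact ⟨_, ⟨g, rfl⟩, (smul_comm g c u).symm⟩
  have h2 : (MulAction.orbit G (c • u)).ncard = (MulAction.orbit G u).ncard := by
    rw [← h1, Set.ncard_image_of_injective _ inj]
  refine ⟨(MulAction.orbit G u).ncard, by rw [← h.add_eq ht hu (nz hu) ne, h2, two_mul],
    fun v hv => ?_⟩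
  rw [MulAction.index_stabilizer]
  rcases ht.of_not_mem hu (nz hu) ne hv with e | e <;> rw [MulAction.orbit_eq_iff.2 e]
  rw [h2]

theorem Cp.exists_order (h : Cp G V p n) (hs : Sc G V p) : ∃ g : G, p - 1 ∣ orderOf g := by
  have := Fact.mk h.prime
  have := h.nontrivial
  obtain ⟨v, hv⟩ := exists_ne (0 : V)
  obtain ⟨c, hc⟩ := IsCyclic.exists_ofOrder_eq_natCard (α := (ZMod p)ˣ)
  rw [Nat.card_eq_fintype_card, ZMod.card_units] at hc
  have c0 : ¬ p ∣ (c : ZMod p).val := fun e => c.ne_zero (by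
    rw [← ZMod.natCast_zmod_val (c : ZMod p)]; exact (ZMod.natCast_eq_zero_iff _ _).2 e)
  obtain ⟨g, hg⟩ := hs v _ c0
  have h1 : ∀ k : ℕ, g ^ k • v = (c : ZMod p).val ^ k • v := fun k => by
    induction k with
    | zero => simp
    | succ k ih =>
      rw [pow_succ', mul_smul, ih, smul_comm g, show g • v = _ from hg, ← mul_smul, pow_succ]
  refine ⟨g, hc ▸ orderOf_dvd_of_pow_eq_one (Units.ext ?_)⟩
  have h2 := h1 (orderOf g)
  rw [pow_orderOf_eq_one, one_smul] at h2
  have h3 : 1 ≤ (c : ZMod p).val ^ orderOf g :=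
    Nat.one_le_pow _ _ (Nat.pos_of_ne_zero fun e => c0 (e ▸ dvd_zero p))
  have h4 : ((c : ZMod p).val ^ orderOf g - 1) • v = 0 := by
    rw [sub_nsmul _ h3, ← h2, one_nsmul, add_neg_cancel]
  have h5 := (ZMod.natCast_eq_zero_iff _ _).2 ((h.nsmul_eq_zero hv).1 h4)
  rw [Nat.cast_sub h3, Nat.cast_pow, ZMod.natCast_zmod_val, Nat.cast_one, sub_eq_zero] at h5
  simpa using h5

end CfsgLib.PRg
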