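import Cfsg.Agent.Lib.KgT.Rep

/-! Definitions for the number of `p`-regular classes of `p`-solvable groups (plans/PRG.md). -/

set_option autoImplicit false

namespace CfsgLib.PRg

/-- the number of `p`-regular classes -/
noncomputable abbrev kp (p : ℕ) (G : Type*) [Group G] : ℕ :=
  Nat.card {c : ConjClasses G // ∃ g : G, ConjClasses.mk g = c ∧ ¬ p ∣ orderOf g}

/-- all non-trivial `p`-elements are conjugate -/
def OC (p : ℕ) (G : Type*) [Group G] : Prop :=
  ∀ x y : G, x ≠ 1 → y ≠ 1 → (∃ k : ℕ, orderOf x = p ^ k) → (∃ k : ℕ, orderOf y = p ^ k) →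
    IsConj x y

/-- at most two classes of non-trivial `p`-elements -/
def TC (p : ℕ) (G : Type*) [Group G] : Prop :=
  ∃ a b : G, ∀ x : G, x ≠ 1 → (∃ k : ℕ, orderOf x = p ^ k) → IsConj x a ∨ IsConj x b

/-- an abelian subgroup of index at most `i` -/
def Ab (G : Type*) [Group G] (i : ℕ) : Prop :=
  ∃ A : Subgroup G, IsMulCommutative A ∧ A.index ≤ i

/-- no non-trivial normal `s`-subgroup -/
def NoN (G : Type*) [Group G] (s : ℕ) : Prop :=
  ∀ Q : Subgroup G, Q.Normal → IsPGroup s Q → Q = ⊥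

variable (G V : Type*) [Group G] [AddCommGroup V] [DistribMulAction G V]

/-- coprime action on an elementary abelian group of order `p ^ n` -/
structure Cp (p n : ℕ) : Prop where
  prime : p.Prime
  card : Nat.card V = p ^ n
  exp : ∀ v : V, p • v = 0
  pos : 0 < n
  cop : ¬ p ∣ Nat.card G

/-- exactly two orbits on the non-zero vectors -/
def Tw : Prop :=
  ∃ v w : V, v ≠ 0 ∧ w ≠ 0 ∧ w ∉ MulAction.orbit G v ∧
    ∀ u : V, u ≠ 0 → u ∈ MulAction.orbit G v ∨ u ∈ MulAction.orbit G w

/-- the orbits are closed under the scalars of the prime field -/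
def Sc (p : ℕ) : Prop := ∀ (v : V) (c : ℕ), ¬ p ∣ c → c • v ∈ MulAction.orbit G v

/-- all orbits on non-zero vectors have length divisible by `M` -/
def Dv (M : ℕ) : Prop := ∀ v : V, v ≠ 0 → M ∣ (MulAction.stabilizer G v).index

/-- irreducibility -/
def Irr : Prop := ∀ W : AddSubgroup V, (∀ (g : G), ∀ w ∈ W, g • w ∈ W) → W = ⊥ ∨ W = ⊤

end CfsgLib.PRg
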