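import Cfsg.Agent.Lib.PRg.Defs
import Cfsg.Agent.Lib.KgT.Two

/-! PRG, package D2: lower bounds for the class number in dimension two. -/

set_option autoImplicit false
set_option maxRecDepth 100000

namespace CfsgLib.PRg

open CfsgLib.KgT Subgroup Equiv Equiv.Perm
open scoped MatrixGroups

theorem d2_count {G Q : Type*} [Group G] [Finite G] [Group Q] [DecidableEq Q] (π : G →* Q)
    (hZ : π.ker ≤ center G) {ι : G} (hι : ι * ι = 1)
    (hc : ∀ g x, π g * π x = π x * π g → g * x * g⁻¹ = x ∨ g * x * g⁻¹ = x * ι) (R : Finset Q)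
    (hR : ∀ q ∈ R, ∃ x, π x = q) (hn : ∀ a ∈ R, ∀ b ∈ R, ∀ g, π g * a = b * π g → a = b) :
    (∑ q ∈ R, if q ^ 15 = 1 then 2 else 1) * Nat.card π.ker ≤ 2 * kk G := by
  classical
  have := Fintype.ofFinite (ConjClasses G)
  have := Fintype.ofFinite π.ker
  choose! s hs using hR
  let F : Q → π.ker → ConjClasses G := fun q z => ConjClasses.mk (s q * z)
  have key : ∀ a ∈ R, ∀ b ∈ R, ∀ z z', F a z = F b z' →
      a = b ∧ ∃ c, π c * π (s a) = π (s a) * π c ∧ c * s a * c⁻¹ * z = s b * z' := by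
    intro a ha b hb z z' e
    obtain ⟨c, h1⟩ := isConj_iff.1 (ConjClasses.mk_eq_mk_iff_isConj.1 e)
    have h2 := congrArg π h1
    rw [map_mul, map_mul, map_mul, map_mul, z.2, z'.2, mul_one, mul_one, hs a ha, hs b hb, map_inv,
      mul_inv_eq_iff_eq_mul] at h2
    obtain rfl := hn a ha b hb c h2
    refine ⟨rfl, c, by rwa [hs a ha], ?_⟩
    rw [← h1, mul_assoc (c * s a), mem_center_iff.1 (hZ z.2) c⁻¹]
    group
  have h1 : ∑ q ∈ R, (Finset.univ.image (F q)).card ≤ kk G := by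
    rw [← Finset.card_biUnion, kk, Nat.card_eq_fintype_card]
    · exact Finset.card_le_univ _
    · intro a ha b hb ne
      refine Finset.disjoint_left.2 fun c h1 h2 => ?_
      obtain ⟨z, -, rfl⟩ := Finset.mem_image.1 h1
      obtain ⟨z', -, e⟩ := Finset.mem_image.1 h2
      exact ne (key a ha b hb z z' e.symm).1
  refine le_trans ?_ (Nat.mul_le_mul_left 2 h1)
  rw [Finset.sum_mul, Finset.mul_sum, Nat.card_eq_fintype_card]
  refine Finset.sum_le_sum fun q hq => ?_
  split_ifs with o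
  · rw [Finset.card_image_of_injective, Finset.card_univ]
    intro z z' e
    obtain ⟨-, c, h2, h3⟩ := key q hq q hq z z' e
    have h4 : c * s q * c⁻¹ = s q := by
      refine (hc c _ h2).elim id fun e1 => ?_
      have i1 : ι ∈ center G := hZ (by
        rw [show ι = (s q)⁻¹ * (c * s q * c⁻¹) by rw [e1]; group, MonoidHom.mem_ker, map_mul,
          map_mul, map_mul, h2, map_inv, map_inv]
        group)
      have i2 : s q ^ 15 ∈ center G := hZ (by rw [MonoidHom.mem_ker, map_pow, hs q hq, o])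
      have i3 : (s q * ι) ^ 15 = s q ^ 15 := by
        rw [← e1, conj_pow, mem_center_iff.1 i2 c, mul_inv_cancel_right]
      rw [(show Commute (s q) ι from mem_center_iff.1 i1 _).mul_pow, mul_eq_left,
        show 15 = 2 * 7 + 1 from rfl, pow_succ, pow_mul, pow_two, hι, one_pow, one_mul] at i3
      rw [e1, i3, mul_one]
    rw [h4] at h3
    exact Subtype.ext (mul_left_cancel h3)
  · rw [one_mul, ← Finset.card_univ]
    refine Finset.card_le_mul_card_image _ 2 fun c hc' => ?_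
    obtain ⟨z, -, rfl⟩ := Finset.mem_image.1 hc'
    refine (Finset.card_le_card_of_injOn (t := ({(z : G), ι * z} : Finset G)) Subtype.val
      (fun z' hz' => ?_) Subtype.val_injective.injOn).trans Finset.card_le_two
    obtain ⟨-, c, h2, h3⟩ := key q hq q hq z z' (Finset.mem_filter.1 hz').2.symm
    rcases hc c _ h2 with e | e <;> rw [e] at h3
    · simp [← mul_left_cancel h3]
    · rw [mul_assoc] at h3
      simp [← mul_left_cancel h3]

theorem d2_scalar {A : Matrix (Fin 2) (Fin 2) ℂ} (h : A * A = 1) (hd : A.det = 1)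
    (B : Matrix (Fin 2) (Fin 2) ℂ) : B * A = A * B := by
  have h00 := congrFun (congrFun h 0) 0
  have h01 := congrFun (congrFun h 0) 1
  have h10 := congrFun (congrFun h 1) 0
  have h11 := congrFun (congrFun h 1) 1
  simp only [Matrix.mul_apply, Fin.sum_univ_two, Matrix.one_apply_eq, ne_eq, zero_ne_one,
    one_ne_zero, not_false_eq_true, Matrix.one_apply_ne] at h00 h01 h10 h11
  rw [Matrix.det_fin_two] at hd
  have t : A 0 0 + A 1 1 ≠ 0 := fun e => two_ne_zero (α := ℂ) (by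
    linear_combination A 0 0 * e - h00 - hd)
  have b : A 0 1 = 0 := mul_left_cancel₀ t (by linear_combination h01)
  have c : A 1 0 = 0 := mul_left_cancel₀ t (by linear_combination h10)
  have d : A 0 0 = A 1 1 := mul_left_cancel₀ t (by linear_combination h00 - h11)
  ext i j
  fin_cases i <;> fin_cases j <;> simp [Matrix.mul_apply, Fin.sum_univ_two, b, c, d] <;>
    exact mul_comm _ _

/-- the projective image -/
theorem d2_frame {G : Type*} [Group G] [Finite G] (h : HasRep G 2) :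
    ∃ f : G →* PGL(2, ℂ), f.ker ≤ center G ∧ (∃ ι : G, ι * ι = 1 ∧
      ∀ g x, f g * f x = f x * f g → g * x * g⁻¹ = x ∨ g * x * g⁻¹ = x * ι) ∧
      ∀ x y, f x ≠ 1 → f y ≠ 1 → f x * f y ≠ 1 → f x * f x = 1 → f y * f y = 1 →
        f x * f y = f y * f x → Even (Nat.card f.ker) := by
  obtain ⟨ρ, hρ⟩ := h
  let f : G →* PGL(2, ℂ) := Matrix.ProjGenLinGroup.mk.comp ρ.toHomUnits
  have hk : f.ker ≤ center G := fun z hz => by
    have h1 := mem_center_iff.1 (Matrix.ProjGenLinGroup.mk_eq_one.1 hz)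
    exact mem_center_iff.2 fun g => hρ (by
      rw [map_mul, map_mul]
      exact congrArg Units.val (h1 (ρ.toHomUnits g)))
  have h1 : ∀ g x, f g * f x = f x * f g → x⁻¹ * (g * x * g⁻¹) ∈ f.ker ∧
      (ρ (x⁻¹ * (g * x * g⁻¹)) = 1 ∨ ρ (x⁻¹ * (g * x * g⁻¹)) = -1) := fun g x e => by
    have hz : x⁻¹ * (g * x * g⁻¹) ∈ f.ker := by
      rw [MonoidHom.mem_ker, map_mul, map_mul, map_mul, e, map_inv, map_inv]; group
    refine ⟨hz, ?_⟩
    obtain ⟨c, hc⟩ := Matrix.GeneralLinearGroup.mem_center_iff_val_mem_range_scalar.1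
      (Matrix.ProjGenLinGroup.mk_eq_one.1 hz)
    have hc : Matrix.scalar (Fin 2) c = ρ (x⁻¹ * (g * x * g⁻¹)) := hc
    have hd : (ρ (x⁻¹ * (g * x * g⁻¹))).det = 1 := by
      have : ∀ y, (ρ y⁻¹).det * (ρ y).det = 1 := fun y => by
        rw [← Matrix.det_mul, ← map_mul, inv_mul_cancel, map_one, Matrix.det_one]
      rw [map_mul, map_mul, map_mul, Matrix.det_mul, Matrix.det_mul, Matrix.det_mul]
      linear_combination (ρ g⁻¹).det * (ρ g).det * this x + this g
    rw [← hc] at hd ⊢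
    rw [Matrix.scalar_apply, Matrix.det_diagonal, Finset.prod_const, Finset.card_univ,
      Fintype.card_fin, sq_eq_one_iff] at hd
    rcases hd with rfl | rfl
    · exact Or.inl (map_one _)
    · exact Or.inr (by rw [map_neg, map_one])
  refine ⟨f, hk, ?_, fun x y x1 y1 xy xx yy c => ?_⟩
  · by_cases hι : ∃ ι, ρ ι = -1
    · obtain ⟨ι, hι⟩ := hι
      refine ⟨ι, hρ (by rw [map_mul, hι, map_one, neg_mul_neg, one_mul]), fun g x e => ?_⟩
      refine (h1 g x e).2.imp (fun e1 => ?_) fun e1 => ?_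
      · exact (inv_mul_eq_one.1 (hρ (e1.trans (map_one ρ).symm))).symm
      · exact inv_mul_eq_iff_eq_mul.1 (hρ (e1.trans hι.symm))
    · refine ⟨1, mul_one 1, fun g x e => Or.inl ?_⟩
      exact (inv_mul_eq_one.1 (hρ (((h1 g x e).2.resolve_right fun e1 => hι ⟨_, e1⟩).trans
        (map_one ρ).symm))).symm
  · by_contra ho
    obtain ⟨k, hm⟩ := Nat.not_even_iff_odd.1 ho
    have p1 : ∀ z ∈ f.ker, z ^ (2 * k + 1) = 1 := fun z hz => by
      rw [← hm]; exact congrArg Subtype.val (pow_card_eq_one' (x := (⟨z, hz⟩ : f.ker)))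
    have p2 : ∀ z, f z * f z = 1 → f (z ^ (2 * k + 1)) = f z := fun z hz => by
      rw [map_pow, pow_succ, pow_mul, pow_two, hz, one_pow, one_mul]
    have p3 : ∀ z, f z * f z = 1 → z ^ (2 * k + 1) * z ^ (2 * k + 1) = 1 := fun z hz => by
      rw [← (Commute.refl z).mul_pow]
      exact p1 _ (by rw [MonoidHom.mem_ker, map_mul, hz])
    have p4 : ∀ z, z * z = 1 → f z ≠ 1 → (ρ z).det = -1 := fun z hz ne => by
      have e : ρ z * ρ z = 1 := by rw [← map_mul, hz, map_one]
      have e' : (ρ z).det ^ 2 = 1 := by rw [pow_two, ← Matrix.det_mul, e, Matrix.det_one]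
      refine (sq_eq_one_iff.1 e').resolve_left fun d => ne ?_
      exact Matrix.ProjGenLinGroup.mk_eq_one.2
        (mem_center_iff.2 fun B => Units.ext (d2_scalar e d B))
    have ex := p2 x xx
    have ey := p2 y yy
    have sx := p3 x xx
    have sy := p3 y yy
    generalize x ^ (2 * k + 1) = u at ex sx
    generalize y ^ (2 * k + 1) = v at ey sy
    obtain ⟨m1, m2⟩ := h1 u v (by rw [ex, ey, c])
    have uv : u * v = v * u := by
      have m3 := p1 _ m1
      have m4 : v⁻¹ * (u * v * u⁻¹) * (v⁻¹ * (u * v * u⁻¹)) = 1 := hρ (by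
        rw [map_mul ρ (v⁻¹ * (u * v * u⁻¹)), map_one]
        rcases m2 with e | e <;> rw [e] <;> simp)
      rw [pow_succ, pow_mul, pow_two, m4, one_pow, one_mul] at m3
      rw [← mul_inv_eq_iff_eq_mul]
      exact (inv_mul_eq_one.1 m3).symm
    have d3 := p4 (u * v) (by
      calc u * v * (u * v) = u * v * (v * u) := by rw [← uv]
        _ = u * (v * v) * u := by group
        _ = 1 := by rw [sy, mul_one, sx]) (by rwa [map_mul, ex, ey])
    rw [map_mul, Matrix.det_mul, p4 u sx (by rwa [ex]), p4 v sy (by rwa [ey])] at d3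
    norm_num at d3

theorem d2_perm {G : Type*} [Group G] [Finite G] {f : G →* PGL(2, ℂ)} (hk : f.ker ≤ center G)
    (h1 : ∃ ι : G, ι * ι = 1 ∧
      ∀ g x, f g * f x = f x * f g → g * x * g⁻¹ = x ∨ g * x * g⁻¹ = x * ι)
    (h2 : ∀ x y, f x ≠ 1 → f y ≠ 1 → f x * f y ≠ 1 → f x * f x = 1 → f y * f y = 1 →
        f x * f y = f y * f x → Even (Nat.card f.ker))
    {n : ℕ} (H : Subgroup (Perm (Fin n))) (e : f.range ≃* H) (R : Finset (Perm (Fin n)))
    (hR : ∀ q ∈ R, q ∈ H) (hn : ∀ a ∈ R, ∀ b ∈ R, ∀ g ∈ H, g * a = b * g → a = b)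
    {a b : Perm (Fin n)} (ha : a ∈ H) (hb : b ∈ H)
    (hab : a ≠ 1 ∧ b ≠ 1 ∧ a * b ≠ 1 ∧ a * a = 1 ∧ b * b = 1 ∧ a * b = b * a) :
    Even (Nat.card f.ker) ∧ f.ker.index = Nat.card H ∧
      (∑ q ∈ R, if q ^ 15 = 1 then 2 else 1) * Nat.card f.ker ≤ 2 * kk G := by
  let ψ : f.range →* Perm (Fin n) := H.subtype.comp e.toMonoidHom
  have hψ : Function.Injective ψ := H.subtype_injective.comp e.injective
  let π : G →* Perm (Fin n) := ψ.comp f.rangeRestrict
  have k1 : ∀ x y, π x = π y ↔ f x = f y := fun x y =>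
    ⟨fun h => congrArg Subtype.val (hψ h), fun h => congrArg ψ (Subtype.ext h)⟩
  have k2 : π.ker = f.ker := by
    ext x
    rw [MonoidHom.mem_ker, MonoidHom.mem_ker, ← map_one π, k1, map_one]
  have k3 : ∀ q ∈ H, ∃ x, π x = q := fun q hq => by
    obtain ⟨x, hx⟩ := f.rangeRestrict_surjective (e.symm ⟨q, hq⟩)
    exact ⟨x, by simp [π, ψ, hx]⟩
  refine ⟨?_, by rw [index_ker, Nat.card_congr e.toEquiv], ?_⟩
  · obtain ⟨x, rfl⟩ := k3 a ha
    obtain ⟨y, rfl⟩ := k3 b hb
    simp only [← map_mul, ← map_one π, Ne, k1] at hab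
    simp only [map_mul, map_one] at hab
    exact h2 x y hab.1 hab.2.1 hab.2.2.1 hab.2.2.2.1 hab.2.2.2.2.1 hab.2.2.2.2.2
  · obtain ⟨ι, hι, hc⟩ := h1
    rw [← k2]
    refine d2_count π (k2 ▸ hk) hι (fun g x e1 => hc g x ?_) R (fun q hq => k3 q (hR q hq))
      fun a ha b hb g => hn a ha b hb _ (e (f.rangeRestrict g)).2
    rwa [← map_mul, ← map_mul, k1, map_mul, map_mul] at e1

theorem dim2 {G : Type*} [Group G] [Finite G] (h : HasRep G 2) :
    Ab G 2 ∨ ∃ Z : Subgroup G, Z ≤ Subgroup.center G ∧ Even (Nat.card Z) ∧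
      ((Z.index = 12 ∧ 7 * Nat.card Z ≤ 2 * kk G) ∨ (Z.index = 24 ∧ 7 * Nat.card Z ≤ 2 * kk G) ∨
        (Z.index = 60 ∧ 9 * Nat.card Z ≤ 2 * kk G ∧ ¬ Group.IsSolvable G)) := by
  obtain ⟨f, hk, h1, h2⟩ := d2_frame h
  have hk' : f.rangeRestrict.ker ≤ center G := by rwa [MonoidHom.ker_rangeRestrict]
  have hs := f.rangeRestrict_surjective
  have := Finite.of_surjective _ hs
  rcases Dickson.dickson_charZero f.range with h3 | ⟨m, ⟨e⟩⟩ | ⟨⟨e⟩⟩ | ⟨⟨e⟩⟩ | ⟨⟨e⟩⟩
  · obtain ⟨r, hr⟩ := h3.exists_generator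
    exact .inl ⟨_, Cfsg.Agent.S4473.comm_of_cyc _ hk' r, by
      rw [(eq_top_iff' _).2 hr, comap_top, index_top]; norm_num⟩
  · obtain ⟨r, s, h3⟩ := DihSyl.exists_isDih (D := (⊤ : Subgroup f.range)) (topEquiv.trans e)
    exact .inl ⟨_, Cfsg.Agent.S4473.comm_of_cyc _ hk' r, by
      rw [index_comap_of_surjective _ hs, ← relIndex_top_right, h3.relIndex_zpowers]⟩
  · obtain ⟨a1, a2, a3⟩ := d2_perm hk h1 h2 (alternatingGroup (Fin 4)) e
      {1, c[0, 1, 2], c[0, 2, 1], c[0, 1] * c[2, 3]} (by simp only [mem_alternatingGroup]; decide +kernel)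
      (by simp only [mem_alternatingGroup]; decide +kernel) (a := c[0, 1] * c[2, 3])
      (b := c[0, 2] * c[1, 3]) (by rw [mem_alternatingGroup]; decide +kernel)
      (by rw [mem_alternatingGroup]; decide +kernel) (by decide +kernel)
    refine .inr ⟨_, hk, a1, .inl ⟨by rw [a2, nat_card_alternatingGroup]; simp [Nat.factorial], ?_⟩⟩
    exact (Nat.mul_le_mul_right _ (by decide +kernel)).trans a3
  · obtain ⟨a1, a2, a3⟩ := d2_perm hk h1 h2 (⊤ : Subgroup (Perm (Fin 4))) (e.trans topEquiv.symm)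
      {1, c[0, 1, 2], c[0, 1], c[0, 1] * c[2, 3], c[0, 1, 2, 3]} (fun _ _ => trivial)
      (by simp only [mem_top, true_implies]; decide +kernel) (a := c[0, 1] * c[2, 3])
      (b := c[0, 2] * c[1, 3]) trivial trivial (by decide +kernel)
    refine .inr ⟨_, hk, a1, .inr (.inl
      ⟨by rw [a2, card_top, Nat.card_perm]; simp [Nat.factorial], ?_⟩)⟩
    exact (Nat.mul_le_mul_right _ (by decide +kernel)).trans a3
  · obtain ⟨a1, a2, a3⟩ := d2_perm hk h1 h2 (alternatingGroup (Fin 5)) e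
      {1, c[0, 1, 2], c[0, 1] * c[2, 3], c[0, 1, 2, 3, 4], c[0, 1, 2, 4, 3]}
      (by simp only [mem_alternatingGroup]; decide +kernel)
      (by simp only [mem_alternatingGroup]; decide +kernel) (a := c[0, 1] * c[2, 3])
      (b := c[0, 2] * c[1, 3]) (by rw [mem_alternatingGroup]; decide +kernel)
      (by rw [mem_alternatingGroup]; decide +kernel) (by decide +kernel)
    refine .inr ⟨_, hk, a1, .inr (.inr
      ⟨by rw [a2, nat_card_alternatingGroup]; simp [Nat.factorial],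
        (Nat.mul_le_mul_right _ (by decide +kernel)).trans a3, fun hG => ?_⟩)⟩
    have : Group.IsSolvable (alternatingGroup (Fin 5)) :=
      Group.isSolvable_of_surjective (f := e.toMonoidHom.comp f.rangeRestrict) (e.surjective.comp hs)
    have h4 := IsSimpleGroup.comm_iff_isSolvable.2 this
      ⟨c[0, 1, 2], mem_alternatingGroup.2 (by decide)⟩ ⟨c[0, 1, 3], mem_alternatingGroup.2 (by decide)⟩
    exact absurd (congrArg Subtype.val h4) (by decide)

theorem ab60 {G : Type*} [Group G] [Finite G] (h : HasRep G 2) : Ab G 60 := by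
  rcases dim2 h with ⟨A, h1, h2⟩ | ⟨Z, h1, -, h2⟩
  · exact ⟨A, h1, by omega⟩
  · exact ⟨Z, ⟨⟨fun a b => Subtype.ext (mem_center_iff.1 (h1 b.2) a)⟩⟩, by omega⟩

end CfsgLib.PRg
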