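import Cfsg.Agent.Lib.PRg.Bas
import Cfsg.Agent.Lib.ChDeg.Blichfeldt

/-! PRG, package EIG: short orbits of abelian subgroups. -/

set_option autoImplicit false

namespace CfsgLib.PRg

open CfsgLib.KgT Polynomial

/-- a vector with prime annihilator -/
theorem eig_prime {K R V : Type*} [Field K] [CommRing R] [Algebra K R] [AddCommGroup V]
    [Module K V] [Finite R] [Nontrivial V] (φ : R →ₐ[K] Module.End K V) :
    ∃ v : V, v ≠ 0 ∧ ∃ P : Ideal R, P.IsPrime ∧ ∀ r, r ∈ P ↔ φ r v = 0 := by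
  let ann : V → Ideal R := fun v =>
    { carrier := {r | φ r v = 0}
      zero_mem' := by simp
      add_mem' := fun {a b} ha hb => by
        simp only [Set.mem_ofPred_eq, map_add, LinearMap.add_apply] at ha hb ⊢
        rw [ha, hb, add_zero]
      smul_mem' := fun c {a} ha => by
        simp only [Set.mem_ofPred_eq, smul_eq_mul, map_mul, Module.End.mul_apply] at ha ⊢
        rw [ha, map_zero] }
  obtain ⟨v0, hv0⟩ := exists_ne (0 : V)
  obtain ⟨P, ⟨v, hv, rfl⟩, hmax⟩ := (Set.toFinite (ann '' {v | v ≠ 0})).exists_maximal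
    ⟨_, v0, hv0, rfl⟩
  refine ⟨v, hv, ann v, ⟨fun e => hv ?_, fun {r s} hrs => ?_⟩, fun _ => Iff.rfl⟩
  · have : (1 : R) ∈ ann v := by rw [e]; trivial
    have h1 : φ 1 v = 0 := this
    simpa using h1
  · refine or_iff_not_imp_right.2 fun hs => ?_
    refine hmax (y := ann (φ s v)) ⟨_, hs, rfl⟩ (fun t ht => ?_) ?_
    · change φ t (φ s v) = 0
      rw [← Module.End.mul_apply, ← map_mul, mul_comm, map_mul, Module.End.mul_apply,
        (ht : φ t v = 0), map_zero]
    · change φ r (φ s v) = 0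
      rw [← Module.End.mul_apply, ← map_mul]
      exact hrs

theorem eig_rep {K A V : Type*} [Field K] [Finite K] [CommGroup A] [Finite A] [AddCommGroup V]
    [Module K V] [Nontrivial V] (ρ : Representation K A V) :
    ∃ v : V, v ≠ 0 ∧ ∀ f : K[X], f ≠ 0 →
      ((fun a => ρ a v) '' {a | aeval (ρ a) f = 0}).ncard ≤ f.natDegree := by
  have : Finite (MonoidAlgebra K A) := Module.finite_of_finite K
  obtain ⟨v, hv, P, hP, mem⟩ := eig_prime ρ.asAlgebraHom
  refine ⟨v, hv, fun f hf => ?_⟩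
  let θ : A → MonoidAlgebra K A ⧸ P := fun a => Ideal.Quotient.mkₐ K P (MonoidAlgebra.of K A a)
  let ψ : MonoidAlgebra K A ⧸ P → V := fun d => ρ.asAlgebraHom d.out v
  have hψ : ∀ a, ψ (θ a) = ρ a v := fun a => by
    have h1 : (θ a).out - MonoidAlgebra.of K A a ∈ P :=
      Ideal.Quotient.eq.1 (Ideal.Quotient.mk_out (θ a))
    rw [mem, map_sub, LinearMap.sub_apply, sub_eq_zero, ρ.asAlgebraHom_of] at h1
    exact h1
  refine le_trans (Set.ncard_le_ncard (t := ψ '' f.rootSet (MonoidAlgebra K A ⧸ P)) ?_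
    ((f.rootSet_finite _).image _)) ((Set.ncard_image_le (f.rootSet_finite _)).trans
      (f.ncard_rootSet_le _))
  rintro _ ⟨a, ha, rfl⟩
  refine ⟨θ a, mem_rootSet.2 ⟨hf, ?_⟩, hψ a⟩
  rw [aeval_algHom_apply, Ideal.Quotient.mkₐ_eq_mk, Ideal.Quotient.eq_zero_iff_mem, mem,
    ← aeval_algHom_apply, ρ.asAlgebraHom_of, (ha : aeval (ρ a) f = 0), LinearMap.zero_apply]

variable {G V : Type*} [Group G] [AddCommGroup V] [DistribMulAction G V] [Finite G] [Finite V]
  {p n : ℕ}

omit [Finite G] [Finite V] in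
theorem eig_relIndex (A : Subgroup G) (v : V) :
    (MulAction.stabilizer G v).relIndex A = (Set.range fun a : A => (a : G) • v).ncard :=
  MulAction.index_stabilizer A v

open scoped IsMulCommutative in
theorem Cp.eig_core (h : Cp G V p n) [Fact p.Prime] [Module (ZMod p) V] (A : Subgroup G)
    [IsMulCommutative A] : ∃ v : V, v ≠ 0 ∧ ∀ f : (ZMod p)[X], f ≠ 0 →
      ((fun a : A => (a : G) • v) '' {a | aeval (basRep G V p a) f = 0}).ncard ≤ f.natDegree :=
  have := h.nontrivial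
  eig_rep ((basRep G V p).comp A.subtype)

theorem Cp.eig_kk_aux (h : Cp G V p n) [Fact p.Prime] [Module (ZMod p) V] (A : Subgroup G)
    [IsMulCommutative A] : ∃ v : V, v ≠ 0 ∧ (MulAction.stabilizer G v).relIndex A ≤ n * kk G := by
  obtain ⟨v, hv, hf⟩ := h.eig_core A
  refine ⟨v, hv, ?_⟩
  have := Fintype.ofFinite (ConjClasses G)
  choose r hr using ConjClasses.mk_surjective (α := G)
  have h1 : (Set.range fun a : A => (a : G) • v) ⊆ ⋃ c : ConjClasses G,
      (fun a : A => (a : G) • v) '' {a | aeval (basRep G V p a) (basRep G V p (r c)).charpoly = 0} := by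
    rintro _ ⟨a, rfl⟩
    refine Set.mem_iUnion.2 ⟨ConjClasses.mk a, a, ?_, rfl⟩
    obtain ⟨g, hg⟩ := isConj_iff.1 (ConjClasses.mk_eq_mk_iff_isConj.1 (hr (ConjClasses.mk a)).symm)
    have e : basRep G V p (r (ConjClasses.mk a)) = (LinearMap.GeneralLinearGroup.toLinearEquiv
        ((basRep G V p).asGroupHom g)).conj (basRep G V p a) := by
      rw [← hg]
      ext u
      have : (LinearMap.GeneralLinearGroup.toLinearEquiv ((basRep G V p).asGroupHom g)).symm u
          = g⁻¹ • u := by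
        rw [LinearEquiv.symm_apply_eq]
        simp [Representation.asGroupHom_apply]
      simp [LinearEquiv.conj_apply, mul_smul, this, Representation.asGroupHom_apply]
    rw [Set.mem_ofPred_eq, e, LinearEquiv.charpoly_conj, LinearMap.aeval_self_charpoly]
  rw [eig_relIndex]
  refine (Set.ncard_le_ncard h1).trans ((Set.ncard_iUnion_le_of_fintype _).trans ?_)
  refine (Finset.sum_le_card_nsmul _ _ n fun c _ => ?_).trans ?_
  · refine (hf _ (LinearMap.charpoly_monic _).ne_zero).trans ?_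
    rw [LinearMap.charpoly_natDegree, h.finrank]
  · rw [Finset.card_univ, smul_eq_mul, mul_comm, kk, Nat.card_eq_fintype_card]

theorem Cp.eig_kk (h : Cp G V p n) (A : Subgroup G) [IsMulCommutative A] :
    ∃ v : V, v ≠ 0 ∧ (MulAction.stabilizer G v).relIndex A ≤ n * kk G :=
  have := Fact.mk h.prime
  let _ := AddCommGroup.zmodModule h.exp
  h.eig_kk_aux A

theorem Cp.eig_exp_aux (h : Cp G V p n) [Fact p.Prime] [Module (ZMod p) V] (A : Subgroup G)
    [IsMulCommutative A] {e : ℕ} (he : 0 < e) (hA : ∀ a ∈ A, a ^ e = 1) :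
    ∃ v : V, v ≠ 0 ∧ (MulAction.stabilizer G v).relIndex A ≤ e := by
  obtain ⟨v, hv, hf⟩ := h.eig_core A
  refine ⟨v, hv, ?_⟩
  have h1 := hf (X ^ e - C 1) (X_pow_sub_C_ne_zero he 1)
  rw [natDegree_X_pow_sub_C] at h1
  rw [eig_relIndex]
  refine (Set.ncard_le_ncard ?_).trans h1
  rintro _ ⟨a, rfl⟩
  refine ⟨a, ?_, rfl⟩
  rw [Set.mem_ofPred_eq, map_sub, map_pow, aeval_X, ← map_pow, hA a a.2]
  simp

theorem Cp.eig_exp (h : Cp G V p n) (A : Subgroup G) [IsMulCommutative A] {e : ℕ} (he : 0 < e)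
    (hA : ∀ a ∈ A, a ^ e = 1) : ∃ v : V, v ≠ 0 ∧ (MulAction.stabilizer G v).relIndex A ≤ e :=
  have := Fact.mk h.prime
  let _ := AddCommGroup.zmodModule h.exp
  h.eig_exp_aux A he hA

theorem Dv.dvd_relIndex {M m : ℕ} (hM : Dv G V M) (hm : m ∣ M) (A : Subgroup G)
    (hA : m.Coprime A.index) {v : V} (hv : v ≠ 0) : m ∣ (MulAction.stabilizer G v).relIndex A := by
  refine hA.dvd_of_dvd_mul_right ((hm.trans (hM v hv)).trans ?_)
  rw [← Subgroup.inf_relIndex_right, Subgroup.relIndex_mul_index inf_le_right]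
  exact Subgroup.index_dvd_of_le inf_le_left

theorem Cp.hall [FaithfulSMul G V] (h : Cp G V p n) {M m : ℕ} (hM : Dv G V M) (hm : m ∣ M)
    (hq : ∀ q : ℕ, q.Prime → q ∣ m → n + 1 < q) : m ≤ n * kk G := by
  obtain ⟨χ, hχ, hk, hd⟩ := h.hasRep.char
  have hf : ChDeg.HasFaithful G n :=
    ⟨χ, hχ, eq_bot_iff.2 fun g hg => hk g ((ChDeg.mem_cker hχ).1 hg), hd.le⟩
  obtain ⟨A, hA, hH⟩ := hf.exists_abelian_hall
  have : IsMulCommutative A := ⟨⟨fun x y => Subtype.ext (hA x x.2 y y.2)⟩⟩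
  obtain ⟨v, hv, le⟩ := h.eig_kk A
  refine (Nat.le_of_dvd (Nat.pos_of_ne_zero Subgroup.index_ne_zero_of_finite)
    (hM.dvd_relIndex hm A (Nat.Coprime.symm (Nat.coprime_of_dvd fun q hq' h1 h2 => ?_)) hv)).trans le
  exact hH.2 q hq' (hq q hq' h2) h1

end CfsgLib.PRg
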