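import Cfsg.Agent.Lib.PRg.Defs
import Cfsg.Agent.Lib.LowDeg.Red

/-! PRG, package EXP: the exponent of Sylow subgroups of linear groups (Blichfeldt). -/

set_option autoImplicit false

namespace CfsgLib.PRg

open CfsgLib.KgT

theorem exp_of_noN {G : Type*} [Group G] [Finite G] {n s a j : ℕ} (h : HasRep G n) (hs : s.Prime)
    (hN : NoN G s) {x : G} (hx : x ^ s ^ a = 1) (hj : n ≤ s ^ j) : x ^ s ^ j = 1 := by
  have := Fact.mk hs
  obtain ⟨χ, hχ, hf, hd⟩ := h.char
  have hd1 : χ 1 = n := by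
    obtain ⟨m, ρ, rfl⟩ := hχ
    rw [← hd, Cfsg.charDegree, Representation.char_one]
    simp
  obtain ⟨k, _, _, _, m, ρ, hm, hρ⟩ := LowDeg.exists_modRep hs hχ hd1
  have hk : ρ.ker = ⊥ := hN _ inferInstance fun g => by
    obtain ⟨e, u, hu, he⟩ := Nat.exists_eq_pow_mul_and_not_dvd (orderOf_pos g).ne' s hs.ne_one
    refine ⟨e, Subtype.ext (hf _ (hρ _ (g ^ s ^ e).2 fun hd => hu (hd.trans ?_)))⟩
    rw [Subgroup.orderOf_coe]
    exact orderOf_dvd_of_pow_eq_one (by rw [← pow_mul, ← he, pow_orderOf_eq_one])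
  rw [← Subgroup.mem_bot, ← hk, MonoidHom.mem_ker]
  rcases subsingleton_or_nontrivial (Fin m → k) with h0 | h0
  · exact Subsingleton.elim _ _
  have : CharP (Module.End k (Fin m → k)) s := charP_of_injective_algebraMap
    (algebraMap k (Module.End k (Fin m → k))).injective s
  have key : ∀ i : ℕ, (ρ x - 1) ^ s ^ i = ρ (x ^ s ^ i) - 1 := fun i => by
    rw [sub_pow_char_pow_of_commute s i (Commute.one_right _), one_pow, map_pow]
  have h1 : IsNilpotent (ρ x - 1) := ⟨s ^ a, by rw [key, hx, map_one, sub_self]⟩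
  have h2 := LinearMap.aeval_self_charpoly (ρ x - 1)
  rw [h1.charpoly_eq_X_pow_finrank, map_pow, Polynomial.aeval_X] at h2
  have h3 : Module.finrank k (Fin m → k) ≤ s ^ j := by
    rw [Module.finrank_fin_fun]
    omega
  rw [← sub_eq_zero, ← key]
  exact pow_eq_zero_of_le h3 h2

end CfsgLib.PRg
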