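import Cfsg.Agent.Lib.PRg.Red
import Cfsg.Agent.Lib.Frob.Basic
import Cfsg.Agent.Lib.Tech.Invol
import Cfsg.Agent.Lib.SL2.Basic

/-! PRG, package EXT: extensions of the exceptional Frobenius group of order `121 * 120`. -/

set_option autoImplicit false

namespace CfsgLib.PRg

open Subgroup

theorem ext_inj {α β : Type*} [Finite α] {f : α → β} (hf : Function.Surjective f)
    (h : Nat.card α ≤ Nat.card β + 1) {o c : α} (ne : o ≠ c) (e : f o = f c) {a b : α} (ha : a ≠ c) (hb : b ≠ c)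
    (k : f a = f b) : a = b := by
  have := Finite.of_surjective f hf
  have s : Function.Surjective fun x : {x // x ≠ c} => f x := fun y => by
    obtain ⟨x, rfl⟩ := hf y
    by_cases m : x = c
    exacts [⟨⟨o, ne⟩, m ▸ e⟩, ⟨⟨x, m⟩, rfl⟩]
  have h1 := Nat.card_le_card_of_surjective _ s
  have h2 := Finite.card_subtype_lt (p := fun x => x ≠ c) (x := c) (by simp)
  exact congrArg Subtype.val
    (((Nat.bijective_iff_surjective_and_card _).2 ⟨s, by omega⟩).1 (a₁ := ⟨a, ha⟩) (a₂ := ⟨b, hb⟩) k)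

theorem ext_num : ∀ q < 121, ∀ k < 5, q ^ k - 1 ∣ 14520 → k < 2 ∨ q ≤ 5 ∨ q = 11 ∨ q = 21 := by
  decide +kernel

theorem ext_diag : ∀ a b c d a' b' c' d' : ZMod 5, b * 3 = 2 * b → c * 2 = 3 * c → a * d - b * c = 1 →
    b' * 3 = 2 * b' → c' * 2 = 3 * c' → a' * d' - b' * c' = 1 → a = a' → b = b' ∧ c = c' ∧ d = d' := by
  have h1 : ∀ b : ZMod 5, b * 3 = 2 * b → b = 0 := by decide
  have h2 : ∀ b : ZMod 5, b * 2 = 3 * b → b = 0 := by decide
  have h3 : ∀ a d d' : ZMod 5, a * d - 0 * 0 = 1 → a * d' - 0 * 0 = 1 → d = d' := by decide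
  rintro a b c d _ b' c' d' k1 k2 k3 k4 k5 k6 rfl
  rw [h1 b k1, h2 c k2] at k3
  rw [h1 b' k4, h2 c' k5] at k6
  exact ⟨(h1 b k1).trans (h1 b' k4).symm, (h2 c k2).trans (h2 c' k5).symm, h3 a d d' k3 k6⟩

theorem ext_four : ∃ x : Matrix.SpecialLinearGroup (Fin 2) (ZMod 5), orderOf x = 4 ∧
    Nat.card (centralizer {x}) ≤ 5 := by
  let x : Matrix.SpecialLinearGroup (Fin 2) (ZMod 5) := ⟨!![2, 0; 0, 3], by decide⟩
  refine ⟨x, orderOf_eq_prime_pow (p := 2) (n := 1) (by decide) (by decide), ?_⟩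
  refine (Nat.card_le_card_of_injective (fun g => g.1.1 0 0) fun g g' e => ?_).trans (Nat.card_zmod 5).le
  have k : ∀ g : centralizer ({x} : Set (Matrix.SpecialLinearGroup (Fin 2) (ZMod 5))),
      g.1.1 0 1 * 3 = 2 * g.1.1 0 1 ∧ g.1.1 1 0 * 2 = 3 * g.1.1 1 0 ∧
        g.1.1 0 0 * g.1.1 1 1 - g.1.1 0 1 * g.1.1 1 0 = 1 := fun g => by
    have : g.1.1 * !![2, 0; 0, 3] = !![2, 0; 0, 3] * g.1.1 :=
      congrArg (fun y : Matrix.SpecialLinearGroup (Fin 2) (ZMod 5) => y.1) (mem_centralizer_singleton_iff.1 g.2)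
    refine ⟨?_, ?_, by rw [← Matrix.det_fin_two, g.1.2]⟩
    · simpa [Matrix.mul_apply, Fin.sum_univ_two] using congrFun (congrFun this 0) 1
    · simpa [Matrix.mul_apply, Fin.sum_univ_two] using congrFun (congrFun this 1) 0
  obtain ⟨h1, h2, h3⟩ := ext_diag _ _ _ _ _ _ _ _ (k g).1 (k g).2.1 (k g).2.2 (k g').1 (k g').2.1 (k g').2.2 e
  refine Subtype.ext (Subtype.ext (Matrix.ext fun i j => ?_))
  fin_cases i <;> fin_cases j <;> assumption

theorem ext_card {G : Type*} [Group G] [Finite G] (N : Subgroup G) [N.Normal] {x : G}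
    (h : ∀ y : G, (x : G ⧸ N) = y → IsConj x y) :
    Nat.card (centralizer {x}) = Nat.card (centralizer {(x : G ⧸ N)}) := by
  have e : {y | IsConj x y} = QuotientGroup.mk ⁻¹' {y | IsConj (x : G ⧸ N) y} := Set.ext fun y =>
    ⟨(QuotientGroup.mk' N).map_isConj, fun m => by
      obtain ⟨g, hg⟩ := isConj_iff.1 m
      obtain ⟨g, rfl⟩ := QuotientGroup.mk_surjective g
      exact (h (g⁻¹ * y * g) (by simp [← hg, mul_assoc])).trans (isConj_iff.2 ⟨g, by group⟩)⟩
  have h1 := Fgs.ncard_isConj_eq_index x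
  rw [e, ← Nat.card_coe_set_eq, QuotientGroup.card_preimage_mk, Nat.card_coe_set_eq,
    Fgs.ncard_isConj_eq_index] at h1
  have h2 := (centralizer {x}).card_mul_index
  rw [← h1, card_eq_card_quotient_mul_card_subgroup N, ← (centralizer {(x : G ⧸ N)}).card_mul_index,
    mul_assoc, mul_comm _ (Nat.card N)] at h2
  exact Nat.eq_of_mul_eq_mul_right (Nat.mul_pos Nat.card_pos (Nat.pos_of_ne_zero index_ne_zero_of_finite)) h2

def extA : Matrix.SpecialLinearGroup (Fin 2) (ZMod 5) := ⟨!![1, 1; 0, 1], by decide⟩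
def extB : Matrix.SpecialLinearGroup (Fin 2) (ZMod 5) := ⟨!![1, 0; 1, 1], by decide⟩
theorem ext_ne : extA * extB * (extB * extA)⁻¹ ≠ 1 := by
  rw [Ne, mul_inv_eq_one]; decide

theorem ext11 {G : Type*} [Group G] [Finite G] (N : Subgroup G) [N.Normal] (h0 : N ≠ ⊥)
    (hN : ¬ 11 ∣ Nat.card N) (hc : Nat.card (G ⧸ N) = 121 * 120) (H : Subgroup (G ⧸ N))
    (hH : Cfsg.IsFrobeniusComplement H)
    (e : H ≃* Matrix.SpecialLinearGroup (Fin 2) (ZMod 5)) (h9 : kp 11 (G ⧸ N) = 9) :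
    11 ≤ kp 11 G := by
  by_contra! lt
  have p11 : Nat.Prime 11 := by norm_num
  have := Fact.mk Nat.prime_five
  have cH : Nat.card H = 120 := by rw [Nat.card_congr e.toEquiv, SL2.card_SL2]; simp
  obtain ⟨q, hq, qN⟩ := Nat.exists_prime_and_dvd (mt card_eq_one.1 h0)
  have := Fact.mk hq
  obtain ⟨⟨n, hn⟩, on⟩ := exists_prime_orderOf_dvd_card' q qN
  rw [orderOf_mk] at on
  have rN : ∀ m ∈ N, ¬ 11 ∣ orderOf m := fun m hm k => hN (k.trans (orderOf_dvd_natCard N hm))
  have inj := @ext_inj _ _ _ _ (redMap_surj p11 N) (show kp 11 G ≤ kp 11 (G ⧸ N) + 1 by omega) ⟨_, 1, rfl, by simp⟩ ⟨_, n, rfl, rN n hn⟩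
    (fun k => hq.ne_one (by
      rw [← on, isConj_one_right.1 (ConjClasses.mk_eq_mk_iff_isConj.1 (congrArg Subtype.val k)), orderOf_one]))
    (Subtype.ext (congrArg ConjClasses.mk ((QuotientGroup.eq_one_iff n).2 hn).symm))
  have A : ∀ m ∈ N, m ≠ 1 → IsConj n m := fun m hm m1 => by
    by_contra k
    by_cases n1 : n = 1
    · exact hq.ne_one (by rw [← on, n1, orderOf_one])
    exact m1 (isConj_one_left.1 (ConjClasses.mk_eq_mk_iff_isConj.1 (congrArg Subtype.val
      (inj (a := ⟨_, m, rfl, rN m hm⟩) (b := ⟨_, 1, rfl, by simp⟩)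
        (fun a => k (ConjClasses.mk_eq_mk_iff_isConj.1 (congrArg Subtype.val a)).symm)
        (fun a => n1 (isConj_one_right.1 (ConjClasses.mk_eq_mk_iff_isConj.1 (congrArg Subtype.val a))))
        (Subtype.ext (congrArg ConjClasses.mk ((QuotientGroup.eq_one_iff m).2 hm)))))))
  have mN : ∀ {y}, IsConj n y → y ∈ N := fun k => by
    obtain ⟨g, rfl⟩ := isConj_iff.1 k
    exact ‹N.Normal›.conj_mem n hn g
  have B : ∀ x : G, (x : G ⧸ N) ∈ H → (x : G ⧸ N) ≠ 1 →
      Nat.card (centralizer {x}) = Nat.card (centralizer {(x : G ⧸ N)}) := fun x hx x1 => by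
    have reg : ∀ y : G, (x : G ⧸ N) = y → ¬ 11 ∣ orderOf y := fun y k d => by
      have h1 : y ^ 120 ∈ N := (QuotientGroup.eq_one_iff _).1 (by
        rw [QuotientGroup.mk_pow, ← k, ← cH]; exact orderOf_dvd_iff_pow_eq_one.1 (orderOf_dvd_natCard H hx))
      have h2 := orderOf_dvd_iff_pow_eq_one.1 (orderOf_dvd_natCard N h1)
      rw [← pow_mul] at h2
      exact hN ((p11.dvd_mul.1 (d.trans (orderOf_dvd_of_pow_eq_one h2))).resolve_left (by norm_num))
    have ne : ∀ y : G, (x : G ⧸ N) = y → ¬ IsConj y n := fun y k m =>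
      x1 (k ▸ (QuotientGroup.eq_one_iff y).2 (mN m.symm))
    exact ext_card N fun y k => ConjClasses.mk_eq_mk_iff_isConj.1 (congrArg Subtype.val
      (inj (a := ⟨_, x, rfl, reg x rfl⟩) (b := ⟨_, y, rfl, reg y k⟩)
        (fun a => ne x rfl (ConjClasses.mk_eq_mk_iff_isConj.1 (congrArg Subtype.val a)))
        (fun a => ne y k (ConjClasses.mk_eq_mk_iff_isConj.1 (congrArg Subtype.val a)))
        (Subtype.ext (congrArg ConjClasses.mk k))))
  have B' : ∀ x : G, (x : G ⧸ N) ∈ H → (x : G ⧸ N) ≠ 1 → Nat.card (centralizer {x}) ∣ 120 := fun x hx x1 =>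
    B x hx x1 ▸ cH ▸ card_dvd_of_le (Frob.frob_centralizer_le hH hx x1)
  have pN : IsPGroup q N := fun m => ⟨1, Subtype.ext (by
    by_cases m1 : (m : G) = 1
    · simp [m1]
    obtain ⟨g, hg⟩ := isConj_iff.1 (A m m.2 m1)
    rw [pow_one, SubmonoidClass.coe_pow, ← hg, conj_pow, ← on, pow_orderOf_eq_one, mul_one, mul_inv_cancel,
      OneMemClass.coe_one])⟩
  have C : ∀ y : H, y ≠ 1 → (∃ k, orderOf y = q ^ k) →
      q * orderOf y ∣ Nat.card (centralizer {(y : G ⧸ N)}) := fun y y1 hy => by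
    obtain ⟨x, hx, k, ox⟩ := exists_lift hq N y (by rwa [orderOf_coe])
    obtain ⟨z, hz, oz, cz⟩ := Tech.exists_mem_center_of_normalized (T := N ⊔ zpowers x)
      (IsPGroup.to_sup_of_normal_left pN (IsPGroup.of_card (by rw [Nat.card_zpowers, ox]))) le_sup_left
      (by rw [normalizer_eq_top]; exact le_top) h0
    rw [← hx, ← B x (hx ▸ y.2) fun m => y1 (Subtype.ext (hx ▸ m)),
      ← ((QuotientGroup.mk' N).domRestrict (centralizer {x})).ker.card_mul_index, index_ker]
    refine Nat.mul_dvd_mul ?_ ?_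
    · have := orderOf_dvd_natCard ((QuotientGroup.mk' N).domRestrict (centralizer {x})).ker
        (x := ⟨z, mem_centralizer_singleton_iff.2 (cz x (mem_sup_right (mem_zpowers x))).symm⟩)
        ((QuotientGroup.eq_one_iff z).2 hz)
      rwa [orderOf_mk, oz] at this
    · rw [← orderOf_coe]
      exact orderOf_dvd_natCard _ ⟨⟨x, mem_centralizer_singleton_iff.2 rfl⟩, hx⟩
  have q7 : 5 < q := by
    by_contra! q5
    have D : q ∣ 120 → q * q ∣ 120 := fun d => by
      obtain ⟨y, hy⟩ := exists_prime_orderOf_dvd_card' (G := H) q (cH ▸ d)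
      have y1 : y ≠ 1 := fun m => hq.ne_one (by rw [← hy, m, orderOf_one])
      have := C y y1 ⟨1, by rw [hy, pow_one]⟩
      rw [hy] at this
      exact this.trans (cH ▸ card_dvd_of_le (Frob.frob_centralizer_le hH y.2 fun m => y1 (Subtype.ext m)))
    have h2 := hq.two_le
    have h4 : q ≠ 4 := by rintro rfl; exact absurd hq (by norm_num)
    by_cases q2 : q = 2
    swap
    · interval_cases q <;> simp_all
    obtain ⟨x, ox, cx⟩ := ext_four
    have oy : orderOf (e.symm x) = 4 := by rw [MulEquiv.orderOf_eq, ox]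
    have y1 : e.symm x ≠ 1 := fun m => by simp [m] at oy
    have le := Frob.frob_centralizer_le hH (e.symm x).2 fun m => y1 (Subtype.ext m)
    have d := Nat.le_of_dvd Nat.card_pos (C _ y1 ⟨2, by rw [oy, q2]; rfl⟩)
    have := Nat.card_le_card_of_injective (fun g : centralizer {(e.symm x : G ⧸ N)} =>
      (⟨e ⟨g, le g.2⟩, mem_centralizer_singleton_iff.2 (by
        have := congrArg e (Subtype.ext (a1 := ⟨g, le g.2⟩ * e.symm x) (a2 := e.symm x * ⟨g, le g.2⟩)
          (mem_centralizer_singleton_iff.1 g.2))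
        rwa [map_mul, map_mul, e.apply_symm_apply] at this)⟩ : centralizer {x}))
      fun g g' m => Subtype.ext (congrArg Subtype.val (e.injective (Subtype.mk.inj m)) :)
    rw [oy, q2] at d
    omega
  obtain ⟨z, hz, oz, cz⟩ := Tech.exists_mem_center_of_normalized pN le_rfl le_normalizer h0
  have z1 : z ≠ 1 := fun m => hq.ne_one (by rw [← oz, m, orderOf_one])
  have d : Nat.card N - 1 ∣ 14520 := by
    have : {y | IsConj z y} = (N : Set G) \ {1} := Set.ext fun y =>
      ⟨fun m => ⟨mN ((A z hz z1).trans m), fun k => z1 (isConj_one_left.1 (k ▸ m))⟩,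
        fun m => (A z hz z1).symm.trans (A y m.1 m.2)⟩
    rw [← SetLike.coe_sort_coe, Nat.card_coe_set_eq, ← Set.ncard_sdiff_singleton_of_mem N.one_mem, ← this,
      Fgs.ncard_isConj_eq_index]
    exact (index_dvd_of_le fun m hm => mem_centralizer_singleton_iff.2 (cz m hm)).trans (dvd_of_eq (by
      rw [index_eq_card, hc]))
  obtain ⟨k, hk⟩ := IsPGroup.iff_card.1 pN
  have k1 : k < 2 := by
    by_contra! k2
    rw [hk] at d hN
    have b := Nat.le_of_dvd (by norm_num) d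
    have b1 := Nat.pow_le_pow_right hq.pos k2
    have b2 := Nat.pow_le_pow_left (show 7 ≤ q by
      by_contra! m
      exact absurd hq (by rw [show q = 6 by omega]; norm_num)) k
    have k5 : k < 5 := by
      by_contra! m
      have := Nat.pow_le_pow_right (by norm_num : 0 < 7) m
      omega
    rcases ext_num q (by
      by_contra! m
      have := Nat.pow_le_pow_left m 2
      omega) k k5 d with m | m | m | m
    exacts [by omega, by omega, hN (m ▸ dvd_pow_self q (by omega)), absurd hq (by rw [m]; norm_num)]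
  have cq : Nat.card N = q := by
    rw [hk] at qN ⊢
    interval_cases k
    exacts [absurd (Nat.dvd_one.1 qN) hq.ne_one, pow_one q]
  have := isCyclic_of_prime_card cq
  let a := extA
  let b := extB
  obtain ⟨u, hu⟩ := QuotientGroup.mk_surjective (e.symm a : G ⧸ N)
  obtain ⟨v, hv⟩ := QuotientGroup.mk_surjective (e.symm b : G ⧸ N)
  have hx : ((u * v * (v * u)⁻¹ : G) : G ⧸ N) = e.symm (a * b * (b * a)⁻¹) := by simp [hu, hv]
  have d1 := (card_dvd_of_le (H := N) fun m hm => mem_centralizer_singleton_iff.2 ?_).trans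
    (B' _ (hx ▸ SetLike.coe_mem _) (by
      rw [hx, Ne, OneMemClass.coe_eq_one, e.symm.map_eq_one_iff]; exact ext_ne))
  · rw [cq] at d1
    have := (Nat.Prime.dvd_mul hq (m := 8) (n := 15)).1 d1
    have h3 := Nat.le_of_dvd (by norm_num) d1
    rcases this with m | m
    · exact absurd (Nat.le_of_dvd two_pos (hq.dvd_of_dvd_pow (show q ∣ 2 ^ 3 from m))) (by omega)
    · rcases (Nat.Prime.dvd_mul hq (m := 3) (n := 5)).1 m with m | m <;>
        exact absurd (Nat.le_of_dvd (by norm_num) m) (by omega)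
  · have c : (MulAut.conjNormal (u * v * (v * u)⁻¹) : MulAut N) = 1 := by
      rw [map_mul, map_inv, map_mul, map_mul, mul_inv_eq_one]
      exact (IsCyclic.mulAutMulEquiv N).injective (by rw [map_mul, map_mul, mul_comm])
    exact (mul_inv_eq_iff_eq_mul.1 (congrArg Subtype.val (DFunLike.congr_fun c ⟨m, hm⟩))).symm

end CfsgLib.PRg
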