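import Cfsg.Agent.Lib.PRg.Bas
import Cfsg.Agent.Lib.PRg.Dim2
import Cfsg.Agent.Lib.KgT.Zs

/-! PRG, package OS: a normal subgroup of primitive prime divisor order. -/

set_option autoImplicit false
set_option linter.unusedSectionVars false

namespace CfsgLib.PRg

open CfsgLib.KgT

section Aux

open Subgroup CfsgLib.Perm

variable {G V : Type*} [Group G] [AddCommGroup V] [DistribMulAction G V] [Finite V] {p n : ℕ}

/-- the field generated by a normal subgroup -/
theorem os_fld [Nontrivial V] (hp : p.Prime) (hc : Nat.card V = p ^ n) (A : Subgroup G) [A.Normal]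
    (hinj : ∀ f ∈ genRing V A, ∀ v, v ≠ 0 → f v = 0 → f = 0) :
    ∃ (K : Type) (_ : Field K) (_ : Fintype K) (_ : Module K V) (_ : CharP K p)
      (σ : G →* RingAut K) (ι : A →* Kˣ) (d : ℕ),
      (∀ (g : G) (c : K) (v : V), g • c • v = σ g c • g • v) ∧
      (∀ (a : A) (v : V), (a : G) • v = (ι a : K) • v) ∧
      Fintype.card K = p ^ d ∧ d * Module.finrank K V = n ∧ σ.ker.index ≤ d := by
  classical
  have hfin : Finite (AddMonoid.End V) :=
    Finite.of_injective (fun f : AddMonoid.End V => (f : V → V)) DFunLike.coe_injective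
  let _ := (isField_of_inj _ hinj).toField
  let ε := Shrink.ringEquiv.{0} (genRing V A)
  let _ : Module (Shrink.{0} (genRing V A)) V := Module.compHom V ε.toRingHom
  have hsm : ∀ (c : Shrink.{0} (genRing V A)) (v : V), c • v = (ε c : AddMonoid.End V) v :=
    fun _ _ => rfl
  obtain ⟨σ, hσ⟩ := exists_ringAut_hom (G := G) (V := V) (K := Shrink.{0} (genRing V A)) fun g c => by
    obtain ⟨f, hf, h⟩ := exists_conj_genRing A g (ε c).2
    exact ⟨ε.symm ⟨f, hf⟩, fun v => by rw [hsm, hsm, h, RingEquiv.apply_symm_apply]⟩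
  let ι₀ : A →* genRing V A := ((DistribMulAction.toAddMonoidEnd G V).comp A.subtype).codRestrict
    (genRing V A) fun a => mem_genRing a.2
  have hι : ∀ (a : A) (v : V), (a : G) • v = ε.symm (ι₀ a) • v := fun a v => by
    rw [hsm, RingEquiv.apply_symm_apply]; rfl
  have := Fintype.ofFinite (Shrink.{0} (genRing V A))
  obtain ⟨q, _, ⟨d, hd⟩, hq, hK⟩ := FiniteField.card' (Shrink.{0} (genRing V A))
  rw [PNat.mk_coe] at hK
  have hVK : p ^ n = q ^ (d * Module.finrank (Shrink.{0} (genRing V A)) V) := by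
    rw [← hc, Module.natCard_eq_pow_finrank (K := Shrink.{0} (genRing V A)), Nat.card_eq_fintype_card, hK,
      pow_mul]
  have hm0 : 0 < Module.finrank (Shrink.{0} (genRing V A)) V := Module.finrank_pos
  obtain rfl : q = p := (Nat.prime_dvd_prime_iff_eq hq hp).1
    (hq.dvd_of_dvd_pow (hVK ▸ dvd_pow_self q (Nat.mul_pos hd hm0).ne'))
  refine ⟨_, _, _, _, inferInstance, σ, (ε.symm.toMonoidHom.comp ι₀).toHomUnits, d, hσ, hι, hK,
    (Nat.pow_right_injective hq.two_le hVK).symm, ?_⟩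
  rw [index_ker]
  have : Finite (RingAut (Shrink.{0} (genRing V A))) :=
    Finite.of_injective (fun f : RingAut _ => (f : _ → _)) DFunLike.coe_injective
  exact (card_le_card_group _).trans (card_ringAut_le hq hK)

omit [Finite V] in
theorem os_comm {A : Subgroup G} (hA : ∀ a ∈ A, ∀ b ∈ A, Commute a b) {f : AddMonoid.End V}
    (hf : f ∈ genRing V A) {a : G} (ha : a ∈ A) (v : V) : f (a • v) = a • f v := by
  have : genRing V A ≤ Subring.centralizer {DistribMulAction.toAddMonoidEnd G V a} := by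
    refine Subring.closure_le.2 ?_
    rintro _ ⟨b, hb, rfl⟩ _ rfl
    rw [← map_mul, ← map_mul, (hA a ha b hb).eq]
  exact (DFunLike.congr_fun (this hf _ rfl) v).symm

/-- an irreducible abelian normal subgroup -/
theorem os_one (hp : p.Prime) (hc : Nat.card V = p ^ n) (hn : 0 < n) (A : Subgroup G) [A.Normal]
    (hA : ∀ a ∈ A, ∀ b ∈ A, Commute a b)
    (hi : ∀ W : AddSubgroup V, (∀ a ∈ A, ∀ w ∈ W, a • w ∈ W) → W = ⊥ ∨ W = ⊤) :
    ∃ C : Subgroup G, C.index ≤ n ∧ ∀ a ∈ C, ∀ b ∈ C, ∀ v : V, a • b • v = b • a • v := by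
  have : Nontrivial V := by
    rw [← Finite.one_lt_card_iff_nontrivial, hc]
    exact Nat.one_lt_pow hn.ne' hp.one_lt
  obtain ⟨K, _, _, _, _, σ, ι, d, hσ, hι, -, hd, hk⟩ := os_fld hp hc A fun f hf v hv e => by
    rcases hi (AddMonoidHom.ker (f : V →+ V)) (fun a ha w hw => by
      have h3 : f w = 0 := hw
      change f (a • w) = 0
      rw [os_comm hA hf ha, h3, smul_zero]) with h2 | h2
    · exact absurd (AddSubgroup.mem_bot.1 (h2.le (e : v ∈ AddMonoidHom.ker (f : V →+ V)))) hv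
    · exact AddMonoidHom.ext fun w => (h2.ge (AddSubgroup.mem_top w) :)
  obtain ⟨v₀, hv⟩ := exists_ne (0 : V)
  have h1 : ∀ v, ∃ c : K, c • v₀ = v := fun v => by
    rcases hi (Submodule.span K {v₀}).toAddSubgroup (fun a ha w hw => by
      rw [hι ⟨a, ha⟩]; exact Submodule.smul_mem _ _ hw) with h2 | h2
    · exact absurd (AddSubgroup.mem_bot.1 (h2.le (Submodule.mem_span_singleton_self v₀))) hv
    · exact Submodule.mem_span_singleton.1 (h2.ge (AddSubgroup.mem_top v))
  refine ⟨σ.ker, hk.trans (Nat.le_of_dvd hn ⟨_, hd.symm⟩), fun a ha b hb v => ?_⟩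
  have k : ∀ g ∈ σ.ker, ∀ (c : K) (v : V), g • c • v = c • g • v := fun g hg c v => by
    rw [hσ, (hg : σ g = 1)]; rfl
  obtain ⟨c, rfl⟩ := h1 v
  obtain ⟨α, hα⟩ := h1 (a • v₀)
  obtain ⟨β, hβ⟩ := h1 (b • v₀)
  rw [k b hb, k a ha, k a ha, k b hb, ← hα, ← hβ, k a ha, k b hb, ← hα, ← hβ, smul_comm α]

/-- the action on an invariant subgroup -/
@[reducible] def osAct (H : Subgroup G) (U : AddSubgroup V) (hU : ∀ g ∈ H, ∀ u ∈ U, g • u ∈ U) :
    DistribMulAction H U where
  smul g u := ⟨g.1 • u.1, hU _ g.2 _ u.2⟩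
  one_smul u := Subtype.ext (one_smul G u.1)
  mul_smul a b u := Subtype.ext (mul_smul a.1 b.1 u.1)
  smul_zero g := Subtype.ext (smul_zero g.1)
  smul_add g u v := Subtype.ext (smul_add g.1 u.1 v.1)

theorem os_blk (hp : p.Prime) (hn : 0 < n) {H E : Subgroup G} [E.Normal] (hE : ∀ a ∈ E, ∀ b ∈ E, Commute a b)
    (le : E ≤ H) {U : AddSubgroup V} (hU : ∀ g ∈ H, ∀ u ∈ U, g • u ∈ U) (hc : Nat.card U = p ^ n)
    (hi : ∀ W ≤ U, (∀ a ∈ E, ∀ w ∈ W, a • w ∈ W) → W = ⊥ ∨ W = U) :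
    ∃ C : Subgroup H, C.index ≤ n ∧ ∀ a ∈ C, ∀ b ∈ C, ∀ v ∈ U, a.1 • b.1 • v = b.1 • a.1 • v := by
  let _ := osAct H U hU
  obtain ⟨C, h1, h2⟩ := os_one (V := U) hp hc hn (E.subgroupOf H)
    (fun a ha b hb => Subtype.ext (hE _ ha _ hb)) fun W hW => by
      refine (hi (W.map U.subtype) (AddSubgroup.map_subtype_le _) ?_).imp (fun e => ?_) fun e => ?_
      · rintro a ha _ ⟨w, hw, rfl⟩
        exact ⟨_, hW ⟨a, le ha⟩ ha w hw, rfl⟩
      · exact (AddSubgroup.map_eq_bot_iff_of_injective _ U.subtype_injective).1 e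
      · refine eq_top_iff.2 fun u _ => ?_
        obtain ⟨w, hw, e⟩ := e.ge u.2
        exact (Subtype.ext e : w = u) ▸ hw
  exact ⟨C, h1, fun a ha b hb v hv => congrArg Subtype.val (h2 a ha b hb ⟨v, hv⟩)⟩

theorem os_dvd {r j : ℕ} (hr : Ppd p n r) (hp : 0 < p) (hn : 0 < n) (h : r ∣ p ^ j - 1) : n ∣ j := by
  have h1 : ∀ k, (p : ZMod r) ^ k = 1 ↔ r ∣ p ^ k - 1 := fun k => by
    rw [← ZMod.natCast_eq_zero_iff, Nat.cast_sub (Nat.one_le_pow k p hp), sub_eq_zero]
    simp
  rw [← (orderOf_eq_iff hn).2 ⟨(h1 n).2 hr.dvd, fun k hk hk0 e => hr.not_dvd k hk0 hk ((h1 k).1 e)⟩]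
  exact orderOf_dvd_of_pow_eq_one ((h1 j).2 h)

theorem os_ab {i j k : ℕ} (C : Subgroup G) (hC : C.index ≤ i) (h : Ab C j) (hk : j * i ≤ k) : Ab G k := by
  obtain ⟨A, _, hA⟩ := h
  exact ⟨A.map C.subtype, inferInstance, by rw [index_map_subtype]; exact (Nat.mul_le_mul hA hC).trans hk⟩

end Aux

open Subgroup CfsgLib.Perm

variable {G V : Type*} [Group G] [AddCommGroup V] [DistribMulAction G V] [Finite G] [Finite V]
  [FaithfulSMul G V] {p n : ℕ}

theorem Cp.os_irr (h : Cp G V p n) {r : ℕ} (hr : Ppd p n r) {x : G} (hx : orderOf x = r)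
    (W : AddSubgroup V) (hW : ∀ w ∈ W, x • w ∈ W) : W = ⊥ ∨ W = ⊤ := by
  have hp := h.prime.pos
  obtain ⟨e, he, hc⟩ := h.card_sub (fx V x)
  have h0 := card_modEq_fx hr.prime hx (⊤ : AddSubgroup V) fun _ _ => trivial
  rw [top_inf_eq, AddSubgroup.card_top, h.card, hc] at h0
  have k : ∀ j ≤ n, 1 ≡ p ^ j [MOD r] → j = 0 ∨ j = n := fun j hj e => by
    by_contra h3
    exact hr.not_dvd j (by omega) (by omega) ((Nat.modEq_iff_dvd' (Nat.one_le_pow j p hp)).1 e)
  rcases k e he (((Nat.modEq_iff_dvd' (Nat.one_le_pow n p hp)).2 hr.dvd).trans h0) with rfl | rfl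
  · rw [pow_zero, AddSubgroup.card_eq_one] at hc
    have h1 := card_modEq_fx hr.prime hx W hW
    obtain ⟨j, hj, hWj⟩ := h.card_sub W
    rw [hc, inf_bot_eq, AddSubgroup.card_bot, hWj] at h1
    refine (k j hj h1.symm).imp (fun e => ?_) fun e => ?_
    · rwa [e, pow_zero, AddSubgroup.card_eq_one] at hWj
    · exact AddSubgroup.eq_top_of_card_eq _ (by rw [hWj, e, h.card])
  · have h2 := AddSubgroup.eq_top_of_card_eq _ (hc.trans h.card.symm)
    have h3 : x = 1 := FaithfulSMul.eq_of_smul_eq_smul (α := V) fun v => by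
      rw [one_smul]; exact (h2.ge (AddSubgroup.mem_top v) : v ∈ fx V x)
    rw [h3, orderOf_one] at hx
    exact (hr.prime.one_lt.ne hx).elim

theorem Cp.cab (h : Cp G V p n) {r : ℕ} (hr : Ppd p n r) : CAb G r := by
  intro x hx a b ha hb
  have := h.nontrivial
  let φ := DistribMulAction.toAddMonoidEnd G V
  have hF : IsField (Subring.centralizer ({φ x} : Set (AddMonoid.End V))) := by
    refine isField_of_inj _ fun f hf v hv e => ?_
    have h1 : φ x * f = f * φ x := hf _ rfl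
    rcases h.os_irr hr hx (AddMonoidHom.ker (f : V →+ V)) (fun w hw => by
      have h2 : f (x • w) = x • f w := (DFunLike.congr_fun h1 w).symm
      have h3 : f w = 0 := hw
      change f (x • w) = 0
      rw [h2, h3, smul_zero]) with h2 | h2
    · exact absurd (AddSubgroup.mem_bot.1 (h2.le (e : v ∈ AddMonoidHom.ker (f : V →+ V)))) hv
    · exact AddMonoidHom.ext fun w => (h2.ge (AddSubgroup.mem_top w) :)
  have hm : ∀ c : G, Commute c x → φ c ∈ Subring.centralizer ({φ x} : Set (AddMonoid.End V)) := by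
    rintro c hc _ rfl
    rw [← map_mul, ← map_mul, hc.eq]
  refine toAddMonoidEnd_injective (V := V) ?_
  rw [map_mul, map_mul]
  exact congrArg Subtype.val (hF.mul_comm ⟨_, hm a ha⟩ ⟨_, hm b hb⟩)

theorem Cp.os1 (h : Cp G V p n) {r : ℕ} (hr : Ppd p n r) (hN : ¬ NoN G r) : Ab G n := by
  have := Fact.mk hr.prime
  simp only [NoN, not_forall] at hN
  obtain ⟨Q, _, hQ, h0⟩ := hN
  obtain ⟨x, hx⟩ := exists_prime_orderOf_dvd_card' (G := Q) r
    (hQ.card_eq_or_dvd.resolve_left fun e => h0 (card_eq_one.1 e))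
  obtain ⟨C, h1, h2⟩ := os_one h.prime h.card h.pos Q (fun a ha b hb => (h.cab hr).comm hQ ha hb)
    fun W hW => h.os_irr hr ((orderOf_coe x).trans hx) W (hW _ x.2)
  exact ⟨C, ⟨⟨fun a b => Subtype.ext (FaithfulSMul.eq_of_smul_eq_smul (α := V) fun v => by
    rw [coe_mul, coe_mul, mul_smul, mul_smul, h2 _ a.2 _ b.2])⟩⟩, h1⟩

open scoped Pointwise in
theorem Cp.os2 {ν s : ℕ} (h : Cp G V p (2 * ν)) (hi : Irr G V) (hs : Ppd p ν s) (h3 : 3 ≤ ν)
    (hN : ¬ NoN G s) : Ab G (20 * ν ^ 2) := by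
  have := Fact.mk hs.prime
  have := Fact.mk h.prime
  have := h.nontrivial
  have hp := h.prime.pos
  obtain ⟨E, _, hE, hQ, h0⟩ : ∃ E : Subgroup G, E.Normal ∧ (∀ a ∈ E, ∀ b ∈ E, Commute a b) ∧ IsPGroup s E ∧
      E ≠ ⊥ := by
    simp only [NoN, not_forall] at hN
    obtain ⟨Q, _, hQ, h0⟩ := hN
    have : Nontrivial Q := (nontrivial_iff_ne_bot Q).2 h0
    have := hQ.center_nontrivial
    refine ⟨(center Q).map Q.subtype, inferInstance, ?_, (hQ.to_subgroup _).map _, fun e => ?_⟩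
    · rintro _ ⟨a, ha, rfl⟩ _ ⟨b, -, rfl⟩
      exact (congrArg Subtype.val (mem_center_iff.1 ha b)).symm
    · exact (nontrivial_iff_ne_bot _).1 this ((map_eq_bot_iff_of_injective _ Q.subtype_injective).1 e)
  by_cases hinj : ∀ f ∈ genRing V E, ∀ v, v ≠ 0 → f v = 0 → f = 0
  · obtain ⟨K, _, _, _, _, σ, ι, d, hσ, hι, hK, hd, hk⟩ := os_fld h.prime h.card E hinj
    have h1 : Nat.card E ∣ p ^ d - 1 := by
      rw [← hK, ← Nat.card_eq_fintype_card, ← Nat.card_units]
      exact card_dvd_of_injective ι ((injective_iff_map_eq_one ι).2 fun a ha =>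
        Subtype.ext (FaithfulSMul.eq_of_smul_eq_smul (α := V) fun v => by rw [hι, ha]; simp))
    obtain ⟨k, rfl⟩ := os_dvd hs hp (by omega)
      ((hQ.card_eq_or_dvd.resolve_left fun e => h0 (card_eq_one.1 e)).trans h1)
    let ρ : Representation K σ.ker V :=
      { toFun := fun g =>
          { toFun := fun v => g.1 • v
            map_add' := smul_add g.1
            map_smul' := fun c v => by rw [hσ, (g.2 : σ g.1 = 1)]; rfl }
        map_one' := LinearMap.ext fun v => one_smul G v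
        map_mul' := fun a b => LinearMap.ext fun v => mul_smul a.1 b.1 v }
    have hρ := hasRep_of_rep p (fun e => h.cop (e.trans (card_subgroup_dvd_card _))) ρ fun a b e =>
      Subtype.ext (FaithfulSMul.eq_of_smul_eq_smul (α := V) fun v => LinearMap.congr_fun e v)
    rw [mul_assoc, mul_comm 2] at hd
    have h2 := Nat.eq_of_mul_eq_mul_left (by omega) hd
    generalize Module.finrank K V = m at h2 hρ
    have h4 : m ≤ 2 := Nat.le_of_dvd two_pos ⟨k, by rw [← h2, mul_comm]⟩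
    interval_cases m
    · omega
    · obtain ⟨φ, hφ⟩ := hρ
      refine os_ab (j := 1) _ hk ⟨⊤, ⟨⟨fun a b => Subtype.ext (hφ ?_)⟩⟩, index_top.le⟩ ?_
      · rw [coe_mul, coe_mul, map_mul, map_mul]
        ext i j
        simp [Matrix.mul_apply, Subsingleton.elim i 0, Subsingleton.elim j 0, mul_comm]
      · obtain rfl : k = 2 := by omega
        nlinarith
    · obtain rfl : k = 1 := by omega
      exact os_ab _ hk (ab60 hρ) (by nlinarith)
  push Not at hinj
  obtain ⟨f, hf, v, hv, hfv, hf0⟩ := hinj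
  let P : AddSubgroup V → Prop := fun U => (∀ a ∈ E, ∀ u ∈ U, a • u ∈ U) ∧ U ≠ ⊥ ∧ U ≠ ⊤
  have fix : ∀ v : V, (∀ a ∈ E, a • v = v) → v = 0 := fun v hv => by
    rcases hi ⟨⟨⟨{v | ∀ a ∈ E, a • v = v}, fun hx hy a ha => by rw [smul_add, hx a ha, hy a ha]⟩,
      fun a _ => smul_zero a⟩, fun hx a ha => by rw [smul_neg, hx a ha]⟩ (fun g w hw a ha => by
        rw [← mul_smul, show a * g = g * (g⁻¹ * a * g) by group, mul_smul,
          hw _ (Normal.conj_mem' ‹_› a ha g)]) with e | e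
    · exact AddSubgroup.mem_bot.1 (e.le hv)
    · exact (h0 (eq_bot_iff.2 fun a ha => FaithfulSMul.eq_of_smul_eq_smul (α := V) fun v => by
        rw [one_smul]; exact e.ge (AddSubgroup.mem_top v) a ha)).elim
  have cP : ∀ U, P U → Nat.card U = p ^ ν := fun U hU => by
    let _ := osAct E U hU.1
    have h1 := hQ.card_modEq_card_fixedPoints U
    rw [show MulAction.fixedPoints E U = {0} from Set.eq_singleton_iff_unique_mem.2 ⟨fun a => smul_zero a,
      fun u hu => Subtype.ext (fix _ fun a ha => congrArg Subtype.val (hu ⟨a, ha⟩))⟩, Nat.card_coe_set_eq,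
      Set.ncard_singleton] at h1
    obtain ⟨j, hj, e⟩ := h.card_sub U
    rw [e] at h1 ⊢
    obtain ⟨k, rfl⟩ := os_dvd hs hp (by omega) ((Nat.modEq_iff_dvd' (Nat.one_le_pow j p hp)).1 h1.symm)
    have h4 : k ≤ 2 := by nlinarith
    interval_cases k
    · exact (hU.2.1 (AddSubgroup.card_eq_one.1 (by simpa using e))).elim
    · rw [mul_one]
    · exact (hU.2.2 (AddSubgroup.eq_top_of_card_eq _ (by rw [e, h.card, mul_comm]))).elim
  have eq : ∀ U U', P U → P U' → U ≤ U' → U = U' := fun U U' h1 h2 le =>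
    AddSubgroup.eq_of_le_of_card_ge le (by rw [cP U h1, cP U' h2])
  have sub : ∀ U, P U → ∀ W ≤ U, (∀ a ∈ E, ∀ w ∈ W, a • w ∈ W) → W = ⊥ ∨ W = U := fun U hU W le hW =>
    or_iff_not_imp_left.2 fun e => eq _ _ ⟨hW, e, fun e' => hU.2.2 (top_le_iff.1 (e' ▸ le))⟩ hU le
  obtain ⟨W, W', pW, pW', two⟩ : ∃ W W', P W ∧ P W' ∧ ∀ U, P U → U = W ∨ U = W' := by
    have pW : P (AddMonoidHom.ker (f : V →+ V)) := ⟨fun a ha w hw => by
      have h3 : f w = 0 := hw
      change f (a • w) = 0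
      rw [os_comm hE hf ha, h3, smul_zero], fun e => hv (AddSubgroup.mem_bot.1 (e.le hfv)),
      fun e => hf0 (AddMonoidHom.ext fun w => (e.ge (AddSubgroup.mem_top w) :))⟩
    have pW' : P (AddMonoidHom.range (f : V →+ V)) := ⟨by
      rintro a ha _ ⟨w, rfl⟩
      exact ⟨a • w, os_comm hE hf ha w⟩, fun e => hf0 (AddMonoidHom.ext fun w => AddSubgroup.mem_bot.1
        (e.le ⟨w, rfl⟩)), fun e => hv (Finite.injective_iff_surjective.2 (AddMonoidHom.range_eq_top.1 e)
          (hfv.trans (map_zero f).symm))⟩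
    refine ⟨_, _, pW, pW', fun U hU => ?_⟩
    have fU : ∀ g ∈ genRing V E, ∀ u ∈ U, g u ∈ U := fun g hg => by
      induction hg using Subring.closure_induction with
      | mem _ h => obtain ⟨a, ha, rfl⟩ := h; exact hU.1 a ha
      | zero => exact fun _ _ => zero_mem U
      | one => exact fun _ h => h
      | add x y _ _ hx hy => exact fun w h => add_mem (hx w h) (hy w h)
      | neg x _ hx => exact fun w h => neg_mem (hx w h)
      | mul x y _ _ hx hy => exact fun w h => hx _ (hy w h)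
    refine (sub U hU _ inf_le_left fun a ha w hw => ⟨hU.1 a ha w hw.1, pW'.1 a ha w hw.2⟩).imp
      (fun e => eq _ _ hU pW fun u hu => AddSubgroup.mem_bot.1 (e.le ⟨fU f hf u hu, u, rfl⟩))
      fun e => eq _ _ hU pW' (inf_eq_left.1 e)
  have sm : ∀ (g : G) U, P U → P (g • U) := fun g U hU => ⟨fun a ha u hu => by
      rw [AddSubgroup.mem_pointwise_smul_iff_inv_smul_mem] at hu ⊢
      rw [← mul_smul, show g⁻¹ * a = g⁻¹ * a * g * g⁻¹ by group, mul_smul]
      exact hU.1 _ (Normal.conj_mem' ‹_› a ha g) _ hu,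
    fun e => hU.2.1 (eq_bot_iff.2 fun u hu => (smul_eq_zero_iff_eq g).1 (AddSubgroup.mem_bot.1
      (e.le (AddSubgroup.smul_mem_pointwise_smul _ _ _ hu)))),
    fun e => hU.2.2 (eq_top_iff.2 fun u _ => AddSubgroup.smul_mem_pointwise_smul_iff.1
      (e.ge (AddSubgroup.mem_top (g • u))))⟩
  have ne : W ≠ W' := fun e => (hi W fun g w hw => (two _ (sm g W pW)).elim id (fun e' => e'.trans e.symm) ▸
    AddSubgroup.smul_mem_pointwise_smul _ _ _ hw).elim pW.2.1 pW.2.2
  have st : ∀ U, P U → ∀ g ∈ MulAction.stabilizer G W, ∀ u ∈ U, g • u ∈ U := fun U hU g hg u hu => by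
    have : g • U = U := by
      rcases two U hU with rfl | rfl
      · exact hg
      · exact (two _ (sm g _ hU)).resolve_left fun e => ne (MulAction.injective g ((hg : g • W = W).trans e.symm))
    exact this ▸ AddSubgroup.smul_mem_pointwise_smul _ _ _ hu
  have le : E ≤ MulAction.stabilizer G W := fun a ha => eq _ _ (sm a W pW) pW (by
    rintro _ ⟨w, hw, rfl⟩; exact pW.1 a ha w hw)
  obtain ⟨C, c1, c2⟩ := os_blk h.prime (by omega) hE le (st W pW) (cP W pW) (sub W pW)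
  obtain ⟨D, d1, d2⟩ := os_blk h.prime (by omega) hE le (st W' pW') (cP W' pW') (sub W' pW')
  have top : W ⊔ W' = ⊤ := by
    by_contra e
    have p : P (W ⊔ W') := ⟨fun a ha u hu => by
      obtain ⟨x, hx, y, hy, rfl⟩ := AddSubgroup.mem_sup.1 hu
      rw [smul_add]
      exact AddSubgroup.add_mem_sup (pW.1 a ha x hx) (pW'.1 a ha y hy),
      fun e => pW.2.1 (le_bot_iff.1 (e ▸ le_sup_left)), e⟩
    exact ne ((eq _ _ pW p le_sup_left).trans (eq _ _ pW' p le_sup_right).symm)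
  refine os_ab (i := 2) (j := ν * ν) (MulAction.stabilizer G W) ?_ ⟨C ⊓ D, ⟨⟨fun a b => Subtype.ext (Subtype.ext
    (FaithfulSMul.eq_of_smul_eq_smul (α := V) fun v => ?_))⟩⟩, index_inf_le.trans (Nat.mul_le_mul c1 d1)⟩
    (by nlinarith)
  · rw [MulAction.index_stabilizer, ← Set.ncard_pair ne]
    refine Set.ncard_le_ncard ?_
    rintro _ ⟨g, rfl⟩
    exact two _ (sm g W pW)
  · obtain ⟨x, hx, y, hy, rfl⟩ := AddSubgroup.mem_sup.1 (top.ge (AddSubgroup.mem_top v))
    simp only [coe_mul, mul_smul, smul_add]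
    rw [c2 _ a.2.1 _ b.2.1 x hx, d2 _ a.2.2 _ b.2.2 y hy]

end CfsgLib.PRg
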