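import Cfsg.Agent.Lib.PRg.Bas
import Cfsg.Agent.Lib.KgT.Zs
import Cfsg.Agent.Lib.MatConj.SylowTorus

/-! PRG, package SAB: abelian Sylow subgroups for primitive prime divisors. -/

set_option autoImplicit false

namespace CfsgLib.PRg

open CfsgLib.KgT CfsgLib.MatConj Finset

theorem sab_fact {q r : ℕ} [hr : Fact r.Prime] (hq : 2 ≤ q) (hrq : ¬ r ∣ q) (a : ℕ) (s : Finset ℕ)
    (hf : ∀ i ∈ s, orderOf (q : ZMod r) ∣ i + 1 → ¬ r ∣ i + 1) :
    (q ^ a * ∏ i ∈ s, (q ^ (i + 1) - 1)).factorization r =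
      #{i ∈ s | orderOf (q : ZMod r) ∣ i + 1} * cycVal q r := by
  have h1 : ∀ i ∈ s, q ^ (i + 1) - 1 ≠ 0 := fun i hi => by
    have := Nat.one_lt_pow (n := i + 1) i.succ_ne_zero (show 1 < q by omega)
    omega
  have h2 : ∀ i ∈ s, (q ^ (i + 1) - 1).factorization r =
      if orderOf (q : ZMod r) ∣ i + 1 then cycVal q r else 0 := fun i hi => by
    by_cases h : orderOf (q : ZMod r) ∣ i + 1
    · exact factorization_pow_sub_one hq hrq (hf i hi h)
    · rw [if_neg h]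
      exact Nat.factorization_eq_zero_of_not_dvd (mt (dvd_pow_sub_one_iff (by omega) _).1 h)
  rw [Nat.factorization_mul (by positivity) (prod_ne_zero_iff.2 h1), Nat.factorization_prod h1,
    Finsupp.add_apply, Nat.factorization_eq_zero_of_not_dvd (mt hr.out.dvd_of_dvd_pow hrq),
    zero_add, Finsupp.finsetSum_apply, sum_congr rfl h2, ← sum_filter, sum_const, smul_eq_mul]

theorem sab_GL {F : Type*} [Field F] [Fintype F] {r n : ℕ} [Fact r.Prime]
    (hrq : ¬ r ∣ Fintype.card F)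
    (hn : ∀ i < n, orderOf (Fintype.card F : ZMod r) ∣ i + 1 → ¬ r ∣ i + 1)
    (P : Sylow r (GL (Fin n) F)) {a b : GL (Fin n) F} (ha : a ∈ P) (hb : b ∈ P) :
    a * b = b * a := by
  obtain ⟨f, hf⟩ := exists_inj_pi_GL hrq n
  obtain ⟨e⟩ := nonempty_sylow_equiv f hf (by
    rw [card_pi_zmod, Classical.gl_card, sab_fact Fintype.one_lt_card hrq _ _
      fun i hi => hn i (mem_range.1 hi), Nat.card_multiples, ← pow_mul']) P
  exact congrArg Subtype.val (e.injective (by rw [map_mul, map_mul, mul_comm]) :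
    (⟨a, ha⟩ * ⟨b, hb⟩ : (P : Subgroup (GL (Fin n) F))) = ⟨b, hb⟩ * ⟨a, ha⟩)

variable {G V : Type*} [Group G] [AddCommGroup V] [DistribMulAction G V] [Finite G] [Finite V]
  [FaithfulSMul G V] {p n : ℕ}

theorem Cp.exists_inj_GL (h : Cp G V p n) [Fact p.Prime] [Module (ZMod p) V] :
    ∃ φ : G →* GL (Fin n) (ZMod p), Function.Injective φ := by
  let b := Module.finBasisOfFinrankEq (ZMod p) V h.finrank
  refine ⟨((LinearMap.toMatrixAlgEquiv b).toMonoidHom.comp (basRep G V p)).toHomUnits,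
    fun x y e => FaithfulSMul.eq_of_smul_eq_smul (α := V) fun v => ?_⟩
  exact LinearMap.congr_fun ((LinearMap.toMatrixAlgEquiv b).injective (congrArg Units.val e)) v

theorem Cp.sab (h : Cp G V p n) {ν s : ℕ} (hs : Ppd p ν s) (h2 : 2 ≤ ν) (hn : n ≤ 2 * ν)
    (P : Subgroup G) (hP : IsPGroup s P) : IsMulCommutative P := by
  have := Fact.mk h.prime
  have := Fact.mk hs.prime
  obtain ⟨φ, hφ⟩ := (let _ := AddCommGroup.zmodModule h.exp; h.exists_inj_GL :
    ∃ φ : G →* GL (Fin n) (ZMod p), Function.Injective φ)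
  have h1 := hs.succ_le h.prime.pos (by omega)
  have ho : orderOf (p : ZMod s) = ν := Nat.dvd_antisymm
    ((dvd_pow_sub_one_iff h.prime.pos ν).1 hs.dvd) (by
      by_contra nd
      have le := Nat.le_of_dvd (by omega) ((dvd_pow_sub_one_iff h.prime.pos ν).1 hs.dvd)
      have pos := Nat.pos_of_dvd_of_pos ((dvd_pow_sub_one_iff h.prime.pos ν).1 hs.dvd) (by omega)
      exact hs.not_dvd _ pos (lt_of_le_of_ne le fun e => nd (e ▸ dvd_rfl))
        ((dvd_pow_sub_one_iff h.prime.pos _).2 dvd_rfl))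
  have hsp : ¬ s ∣ p := fun e => by
    have h3 := Nat.dvd_sub (e.trans (dvd_pow_self p (by omega : ν ≠ 0))) hs.dvd
    rw [Nat.sub_sub_self (Nat.one_le_pow _ _ h.prime.pos)] at h3
    exact hs.prime.one_lt.ne' (Nat.dvd_one.1 h3)
  obtain ⟨Q, hQ⟩ := (hP.map φ).exists_le_sylow
  refine ⟨⟨fun a b => Subtype.ext (hφ ?_)⟩⟩
  rw [Subgroup.coe_mul, Subgroup.coe_mul, map_mul, map_mul]
  refine sab_GL (by rwa [ZMod.card]) (fun i hi h3 h4 => ?_) Q (hQ ⟨a, a.2, rfl⟩) (hQ ⟨b, b.2, rfl⟩)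
  rw [ZMod.card, ho] at h3
  obtain ⟨k, hk⟩ := h3
  rw [hk] at h4
  have k2 : k ≤ 2 := by
    by_contra lt
    have := Nat.mul_le_mul_left ν (show 3 ≤ k by omega)
    omega
  have k0 : 0 < k := Nat.pos_of_ne_zero fun e => by simp [e] at hk
  rcases (Nat.Prime.dvd_mul hs.prime).1 h4 with e | e
  · have := Nat.le_of_dvd (by omega) e
    omega
  · have := Nat.le_of_dvd k0 e
    omega

end CfsgLib.PRg
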