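import Cfsg.Agent.Lib.PRg.Bas

/-! PRG, package SRG: the orbit lengths of a coprime linear group with two orbits. -/

set_option autoImplicit false

namespace CfsgLib.PRg

namespace Srg

open Finset MulAction

theorem arith {p n a b a' b' : ℕ} {r s : ℤ} (hp : p.Prime) (hn : 0 < n) (h1 : a + b + 1 = p ^ n)
    (h2 : a' + b' + 1 = p ^ n) (ha : ¬ p ∣ a) (hb : ¬ p ∣ b) (ha' : ¬ p ∣ a') (hb' : ¬ p ∣ b')
    (A : (a : ℤ) + a' * r + b' * s = 0)
    (B : (a : ℤ) ^ 2 + a' * r ^ 2 + b' * s ^ 2 = (p ^ n : ℕ) * a) (C : r - s ∣ (p ^ n : ℕ)) :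
    ∃ ν, n = 2 * ν ∧ ((p ^ ν - 1 ∣ a ∧ p ^ ν - 1 ∣ b) ∨ (p ^ ν + 1 ∣ a ∧ p ^ ν + 1 ∣ b)) := by
  obtain ⟨j, -, hj⟩ := (Nat.dvd_prime_pow hp).1 (Int.dvd_natCast.1 C)
  have h1' : (a : ℤ) + b + 1 = (p ^ n : ℕ) := by exact_mod_cast h1
  have h2' : (a' : ℤ) + b' + 1 = (p ^ n : ℕ) := by exact_mod_cast h2
  have hsq : (r - s) ^ 2 = ((p ^ j : ℕ) : ℤ) ^ 2 := by rw [← hj, Int.natAbs_sq]
  have key : (a' : ℤ) * b' * ((p ^ j : ℕ) : ℤ) ^ 2 = (p ^ n : ℕ) * (a * b) := by
    rw [← hsq]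
    have e : (a' : ℤ) * r + b' * s = -a := by linarith
    have e2 : (a' : ℤ) * b' * (r - s) ^ 2 =
        (a' + b') * (a' * r ^ 2 + b' * s ^ 2) - (a' * r + b' * s) ^ 2 := by ring
    rw [e2, e, show (a' : ℤ) + b' = (p ^ n : ℕ) - 1 by linarith,
      show (a' : ℤ) * r ^ 2 + b' * s ^ 2 = (p ^ n : ℕ) * a - a ^ 2 by linarith,
      show (b : ℤ) = (p ^ n : ℕ) - 1 - a by linarith]
    ring
  have keyN : a' * b' * p ^ (2 * j) = p ^ n * (a * b) := by
    rw [mul_comm 2 j, pow_mul]; exact_mod_cast key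
  have c1 : Nat.Coprime p (a * b) := (hp.coprime_iff_not_dvd).2 fun k => (hp.dvd_mul.1 k).elim ha hb
  have c2 : Nat.Coprime p (a' * b') := (hp.coprime_iff_not_dvd).2 fun k => (hp.dvd_mul.1 k).elim ha' hb'
  have e : n = 2 * j := le_antisymm
    ((Nat.pow_dvd_pow_iff_le_right hp.one_lt).1
      ((c2.pow_left n).dvd_of_dvd_mul_left ⟨_, keyN⟩))
    ((Nat.pow_dvd_pow_iff_le_right hp.one_lt).1
      ((c1.pow_left (2 * j)).dvd_of_dvd_mul_right ⟨a' * b', by rw [← keyN, mul_comm]⟩))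
  refine ⟨j, e, ?_⟩
  have hab : a' * b' = a * b := by
    rw [← e, mul_comm] at keyN; exact Nat.eq_of_mul_eq_mul_left (pow_pos hp.pos n) keyN
  obtain ⟨M, hM⟩ : ∃ M, p ^ j = M + 1 := ⟨p ^ j - 1, by have := pow_pos hp.pos j; omega⟩
  have hM0 : 0 < M := by
    have : 1 < p ^ j := Nat.one_lt_pow (by omega) hp.one_lt
    omega
  have hq : p ^ n = (M + 1) ^ 2 := by rw [e, mul_comm, pow_mul, hM]
  have hsum : a + b = M * (M + 2) := by rw [hq] at h1; nlinarith
  rw [hM, Nat.add_sub_cancel, show M + 1 + 1 = M + 2 from rfl]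
  suffices k : (M : ℤ) ∣ a ∨ ((M + 2 : ℕ) : ℤ) ∣ a by
    rcases k with k | k
    · have k' := Int.natCast_dvd_natCast.1 k
      exact Or.inl ⟨k', (Nat.dvd_add_right k').1 (hsum ▸ Dvd.intro _ rfl)⟩
    · have k' := Int.natCast_dvd_natCast.1 k
      exact Or.inr ⟨k', (Nat.dvd_add_right k').1 (hsum ▸ Dvd.intro_left _ rfl)⟩
  have s1 : (a : ℤ) + b = M * (M + 2) := by exact_mod_cast hsum
  have s2 : (a' : ℤ) + b' = M * (M + 2) := by linarith
  have s3 : (a' : ℤ) * b' = a * b := by exact_mod_cast hab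
  have m0 : (M : ℤ) ≠ 0 := by exact_mod_cast hM0.ne'
  have m2 : (M : ℤ) + 2 ≠ 0 := by positivity
  have hr : r = s + (M + 1) ∨ r = s - (M + 1) := by
    rw [hM] at hsq
    rcases sq_eq_sq_iff_eq_or_eq_neg.1 hsq with k | k <;> push_cast at k
    · left; linarith
    · right; linarith
  have hz : ((a' : ℤ) - a) * (a' - b) = 0 := by
    linear_combination (-1 : ℤ) * s3 + (a' : ℤ) * s2 - (a' : ℤ) * s1
  push_cast
  rcases mul_eq_zero.1 hz with k | k <;> rcases hr with rfl | rfl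
  · exact Or.inl ⟨-s, mul_left_cancel₀ m2 (by
      linear_combination A - s * s2 - ((M : ℤ) + 1) * k)⟩
  · exact Or.inr ⟨s, mul_left_cancel₀ m0 (by
      linear_combination -A + s * s2 - ((M : ℤ) + 1) * k)⟩
  · exact Or.inr ⟨s + (M + 1), mul_left_cancel₀ m0 (by
      linear_combination -A + s * s2 + ((M : ℤ) + 1) * k + ((M : ℤ) + 1) * s1)⟩
  · exact Or.inl ⟨-(s - (M + 1)), mul_left_cancel₀ m2 (by
      linear_combination A - s * s2 + ((M : ℤ) + 1) * k + ((M : ℤ) + 1) * s1)⟩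

theorem exists_int {x : ℂ} (hx : IsIntegral ℤ x) {k m : ℤ} (hk : k ≠ 0) (e : (k : ℂ) * x = m) :
    ∃ z : ℤ, x = z := by
  have hk' : (k : ℂ) ≠ 0 := by exact_mod_cast hk
  have e1 : x = algebraMap ℚ ℂ ((m : ℚ) / k) := by
    simp only [eq_ratCast, Rat.cast_div, Rat.cast_intCast]
    rw [eq_div_iff hk', mul_comm, e]
  rw [e1, isIntegral_algebraMap_iff (algebraMap ℚ ℂ).injective] at hx
  obtain ⟨y, hy⟩ := IsIntegrallyClosed.isIntegral_iff.1 hx
  exact ⟨y, by rw [e1, ← hy]; simp⟩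

section orbits

variable (G : Type*) {X : Type*} [Group G] [MulAction G X]

/-- a fixed point and two further orbits -/
structure T3 (x₀ x₁ x₂ : X) : Prop where
  fix : ∀ g : G, g • x₀ = x₀
  ne₁ : x₁ ≠ x₀
  ne₂ : x₂ ≠ x₀
  nm : x₂ ∉ orbit G x₁
  cov : ∀ u, u ≠ x₀ → u ∈ orbit G x₁ ∨ u ∈ orbit G x₂

open _root_.Classical in
/-- the orbit as a finite set -/
noncomputable def O [Fintype X] (x : X) : Finset X := univ.filter (· ∈ orbit G x)

variable {G} [Fintype X] {x₀ x₁ x₂ : X}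

theorem mem_O {x u : X} : u ∈ O G x ↔ u ∈ orbit G x := by simp [O]

theorem card_O (x : X) : (O G x).card = (stabilizer G x).index := by
  rw [index_stabilizer, ← Set.ncard_coe_finset]
  congr 1; ext u; simp [mem_O]

omit [Fintype X] in
theorem ne_of_mem (hf : ∀ g : G, g • x₀ = x₀) {x u : X} (hx : x ≠ x₀) (hu : u ∈ orbit G x) : u ≠ x₀ := by
  rintro rfl
  obtain ⟨g, hg⟩ := hu
  exact hx (by rw [← inv_smul_smul g x, show g • x = u from hg, hf])

theorem T3.sum (h : T3 G x₀ x₁ x₂) {M : Type*} [AddCommMonoid M] (f : X → M) :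
    ∑ x, f x = f x₀ + ∑ u ∈ O G x₁, f u + ∑ u ∈ O G x₂, f u := by
  classical
  have e : (univ : Finset X) = insert x₀ (O G x₁ ∪ O G x₂) := by
    ext u
    simp only [mem_univ, mem_insert, mem_union, mem_O, true_iff]
    exact (em (u = x₀)).imp_right (h.cov u)
  rw [e, sum_insert, sum_union, add_assoc]
  · refine disjoint_left.2 fun u h1 h2 => h.nm ?_
    rw [← orbit_eq_iff.2 (mem_O.1 h1), orbit_eq_iff.2 (mem_O.1 h2)]; exact mem_orbit_self _
  · simp only [mem_union, mem_O, not_or]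
    exact ⟨fun k => ne_of_mem h.fix h.ne₁ k rfl, fun k => ne_of_mem h.fix h.ne₂ k rfl⟩

theorem T3.card (h : T3 G x₀ x₁ x₂) : (O G x₁).card + (O G x₂).card + 1 = Fintype.card X := by
  have := h.sum fun _ => 1
  simp only [sum_const, smul_eq_mul, mul_one, card_univ] at this
  omega

omit [Fintype X] in
theorem T3.card_quot (h : T3 G x₀ x₁ x₂) [Fintype (Quotient (orbitRel G X))] :
    Fintype.card (Quotient (orbitRel G X)) = 3 := by
  classical
  rw [← card_univ, card_eq_three]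
  refine ⟨⟦x₀⟧, ⟦x₁⟧, ⟦x₂⟧, fun e => ?_, fun e => ?_, fun e => ?_, ?_⟩
  · exact ne_of_mem h.fix h.ne₁ (Quotient.exact e) rfl
  · exact ne_of_mem h.fix h.ne₂ (Quotient.exact e) rfl
  · exact h.nm (Quotient.exact e.symm)
  · ext q
    obtain ⟨u, rfl⟩ := q.exists_rep
    simp only [mem_univ, mem_insert, mem_singleton, true_iff]
    by_cases hu : u = x₀
    · exact Or.inl (by rw [hu])
    · exact Or.inr ((h.cov u hu).imp (fun k => Quotient.sound k) fun k => Quotient.sound k)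

omit [Fintype X] in
theorem exists_t3 (hf : ∀ g : G, g • x₀ = x₀) [Fintype (Quotient (orbitRel G X))]
    (h : Fintype.card (Quotient (orbitRel G X)) = 3) : ∃ x₁ x₂, T3 G x₀ x₁ x₂ := by
  classical
  have h2 : ((univ : Finset (Quotient (orbitRel G X))).erase ⟦x₀⟧).card = 2 := by
    rw [card_erase_of_mem (mem_univ _), card_univ, h]
  obtain ⟨q₁, q₂, hne, e⟩ := card_eq_two.1 h2
  obtain ⟨x₁, rfl⟩ := q₁.exists_rep
  obtain ⟨x₂, rfl⟩ := q₂.exists_rep
  have k : ∀ u : X, (⟦u⟧ : Quotient (orbitRel G X)) ≠ ⟦x₀⟧ ↔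
      (⟦u⟧ : Quotient (orbitRel G X)) = ⟦x₁⟧ ∨ (⟦u⟧ : Quotient (orbitRel G X)) = ⟦x₂⟧ := fun u => by
    have := Finset.ext_iff.1 e ⟦u⟧
    simpa using this
  refine ⟨x₁, x₂, hf, fun e1 => (k x₁).2 (Or.inl rfl) (by rw [e1]),
    fun e1 => (k x₂).2 (Or.inr rfl) (by rw [e1]), fun e1 => hne (Quotient.sound e1).symm, fun u hu => ?_⟩
  exact ((k u).1 fun e1 => ne_of_mem hf hu (Quotient.exact e1.symm) rfl).imp
    (fun e1 => Quotient.exact e1) fun e1 => Quotient.exact e1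

theorem sum_smul {M : Type*} [AddCommMonoid M] (x : X) (g : G) (f : X → M) :
    ∑ u ∈ O G x, f (g • u) = ∑ u ∈ O G x, f u :=
  sum_equiv (toPerm g) (fun u => by
    rw [mem_O, mem_O, ← orbit_eq_iff, ← orbit_eq_iff]
    show _ ↔ orbit G (g • u) = _
    rw [orbit_smul]) fun _ _ => rfl

theorem sum_const_on {M : Type*} [Semiring M] (x : X) (f k : X → M) (hf : ∀ (g : G) u, f (g • u) = f u) :
    ∑ u ∈ O G x, f u * k u = f x * ∑ u ∈ O G x, k u := by
  rw [mul_sum]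
  refine sum_congr rfl fun u hu => ?_
  obtain ⟨g, rfl⟩ := mem_O.1 hu
  rw [hf]

end orbits

variable {G V : Type*} [Group G] [AddCommGroup V] [DistribMulAction G V]

/-- the action on the additive characters -/
@[reducible] noncomputable def dual (G V : Type*) [Group G] [AddCommGroup V] [DistribMulAction G V] :
    MulAction G (AddChar V ℂ) where
  smul g ψ := ψ.compAddMonoidHom (DistribSMul.toAddMonoidHom V g⁻¹)
  one_smul ψ := by
    ext u; show ψ ((1 : G)⁻¹ • u) = ψ u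
    rw [inv_one, one_smul]
  mul_smul g k ψ := by
    ext u; show ψ ((g * k)⁻¹ • u) = ψ (k⁻¹ • g⁻¹ • u)
    rw [mul_inv_rev, mul_smul]

attribute [local instance] dual

theorem dual_apply (g : G) (ψ : AddChar V ℂ) (u : V) : (g • ψ) u = ψ (g⁻¹ • u) := rfl

theorem card_fixedBy [Fintype V] (g : G) [Fintype (fixedBy (AddChar V ℂ) g)] [Fintype (fixedBy V g)] :
    Fintype.card (fixedBy (AddChar V ℂ) g) = Fintype.card (fixedBy V g) := by
  classical
  have hq : (Fintype.card V : ℂ) ≠ 0 := by exact_mod_cast Fintype.card_ne_zero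
  have e1 : ∀ ψ : AddChar V ℂ, ∑ u, ψ (g⁻¹ • u - u) = if g • ψ = ψ then (Fintype.card V : ℂ) else 0 :=
    fun ψ => by
    have := AddChar.sum_eq_ite (g • ψ - ψ)
    simp only [sub_eq_zero] at this
    rw [← this]
    refine sum_congr rfl fun u _ => ?_
    rw [AddChar.sub_apply, dual_apply, ← AddChar.map_add_eq_mul, sub_eq_add_neg]
  have e2 : ∀ u : V, ∑ ψ : AddChar V ℂ, ψ (g⁻¹ • u - u) = if g • u = u then (Fintype.card V : ℂ) else 0 :=
    fun u => by
    rw [AddChar.sum_apply_eq_ite]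
    simp only [sub_eq_zero, inv_smul_eq_iff, eq_comm (a := u)]
  have e3 := sum_comm (s := (univ : Finset (AddChar V ℂ))) (t := (univ : Finset V))
    (f := fun ψ u => ψ (g⁻¹ • u - u))
  simp only [e1, e2, ← sum_filter, sum_const, nsmul_eq_mul] at e3
  have e4 := mul_right_cancel₀ hq e3
  rw [Fintype.card_subtype, Fintype.card_subtype]
  exact_mod_cast e4

theorem exists_dual [Finite G] [Fintype V] {v w : V} (h : T3 G 0 v w) :
    ∃ ψ₁ ψ₂ : AddChar V ℂ, T3 G 0 ψ₁ ψ₂ := by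
  classical
  haveI := Fintype.ofFinite G
  refine exists_t3 (fun g => by ext u; rw [dual_apply]; rfl) ?_
  have e1 := sum_card_fixedBy_eq_card_orbits_mul_card_group G (AddChar V ℂ)
  have e2 := sum_card_fixedBy_eq_card_orbits_mul_card_group G V
  rw [h.card_quot, ← sum_congr rfl fun g _ => card_fixedBy (V := V) g, e1] at e2
  exact Nat.eq_of_mul_eq_mul_right Fintype.card_pos e2

variable {p n : ℕ}

omit [Group G] [DistribMulAction G V] in
theorem pow_eq (h : Cp G V p n) (ψ : AddChar V ℂ) (u : V) : ψ u ^ p = 1 := by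
  rw [← AddChar.map_nsmul_eq_pow, h.exp, AddChar.map_zero_eq_one]

omit [Group G] [DistribMulAction G V] in
theorem integral (h : Cp G V p n) (ψ : AddChar V ℂ) (u : V) : IsIntegral ℤ (ψ u) :=
  IsIntegral.of_pow h.prime.pos (pow_eq h ψ u ▸ isIntegral_one)

theorem sum_nsmul [Fintype V] (h : Cp G V p n) (hs : Sc G V p) (v : V) {c : ℕ} (hc : ¬ p ∣ c) (f : V → ℂ) :
    ∑ u ∈ O G v, f (c • u) = ∑ u ∈ O G v, f u := by
  classical
  have hinj : Function.Injective fun u : V => c • u := by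
    refine (injective_iff_map_eq_zero (nsmulAddMonoidHom c : V →+ V)).2 fun u hu => ?_
    have h1 : addOrderOf u ∣ c := addOrderOf_dvd_of_nsmul_eq_zero hu
    have h2 : addOrderOf u ∣ p := addOrderOf_dvd_of_nsmul_eq_zero (h.exp u)
    exact AddMonoid.addOrderOf_eq_one_iff.1
      (Nat.eq_one_of_dvd_coprimes ((h.prime.coprime_iff_not_dvd).2 hc) h2 h1)
  have e : (O G v).image (fun u => c • u) = O G v := by
    refine eq_of_subset_of_card_le (fun x hx => ?_) (card_image_of_injective _ hinj).ge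
    obtain ⟨u, hu, rfl⟩ := mem_image.1 hx
    rw [mem_O, ← orbit_eq_iff.2 (mem_O.1 hu)]; exact hs u c hc
  conv_rhs => rw [← e, sum_image fun _ _ _ _ k => hinj k]

theorem F_int [Fintype V] (h : Cp G V p n) (hs : Sc G V p) (v : V) (ψ : AddChar V ℂ) :
    ∃ z : ℤ, ∑ u ∈ O G v, ψ u = z := by
  classical
  obtain ⟨m, rfl⟩ : ∃ m, p = m + 1 := ⟨p - 1, by have := h.prime.pos; omega⟩
  have hm : m ≠ 0 := fun e => Nat.not_prime_one (by have := h.prime; rwa [e] at this)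
  refine exists_int (IsIntegral.sum _ fun u _ => integral h ψ u) (k := m)
    (m := ∑ u ∈ O G v, ((if ψ u = 1 then (m + 1 : ℤ) else 0) - 1)) (by exact_mod_cast hm) ?_
  have e1 : ∑ c ∈ range m, ∑ u ∈ O G v, ψ ((c + 1) • u) = (m : ℤ) * ∑ u ∈ O G v, ψ u := by
    rw [sum_congr rfl fun c hc => sum_nsmul h hs v (c := c + 1) (Nat.not_dvd_of_pos_of_lt (by omega)
      (Nat.succ_lt_succ (mem_range.1 hc))) ψ]
    simp
  rw [← e1, sum_comm]
  push_cast
  refine sum_congr rfl fun u _ => ?_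
  simp only [AddChar.map_nsmul_eq_pow]
  have e0 : ∑ c ∈ range m, ψ u ^ (c + 1) + 1 = ∑ c ∈ range (m + 1), ψ u ^ c := by
    rw [sum_range_succ', pow_zero]
  rw [eq_sub_iff_add_eq, e0]
  split_ifs with k
  · simp [k]
  · have := mul_neg_geom_sum (ψ u) (m + 1)
    rw [pow_eq h, sub_self] at this
    exact (mul_eq_zero.1 this).resolve_left fun e => k (sub_eq_zero.1 e).symm

/-- Fourier inversion for the indicator function of an orbit -/
theorem inversion [Fintype V] [DecidableEq V] (v x : V) :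
    ∑ ψ : AddChar V ℂ, (∑ u ∈ O G v, ψ u) * ψ (-x) = if x ∈ O G v then (Fintype.card V : ℂ) else 0 := by
  simp only [sum_mul, ← AddChar.map_add_eq_mul]
  rw [sum_comm]
  simp only [AddChar.sum_apply_eq_ite, add_neg_eq_zero]
  exact sum_ite_eq' _ _ _

end Srg

variable {G V : Type*} [Group G] [AddCommGroup V] [DistribMulAction G V] [Finite G] [Finite V]
  {p n : ℕ}

open Finset MulAction Srg in
theorem Cp.srg (h : Cp G V p n) (ht : Tw G V) (hs : Sc G V p) :
    ∃ ν, n = 2 * ν ∧ (Dv G V (p ^ ν - 1) ∨ Dv G V (p ^ ν + 1)) := by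
  classical
  haveI := Fintype.ofFinite V
  letI := dual G V
  obtain ⟨v, w, hv, hw, hvw, hc⟩ := ht
  have T : T3 G 0 v w := ⟨fun g => smul_zero g, hv, hw, hvw, hc⟩
  obtain ⟨ψ₁, ψ₂, T'⟩ := exists_dual T
  have hq : Fintype.card V = p ^ n := by rw [← h.card, Nat.card_eq_fintype_card]
  have nd : ∀ H : Subgroup G, ¬ p ∣ H.index := fun H k => h.cop (k.trans H.index_dvd_card)
  set F : AddChar V ℂ → ℂ := fun ψ => ∑ u ∈ O G v, ψ u with hF
  have hFg : ∀ (g : G) ψ, F (g • ψ) = F ψ := fun g ψ => Srg.sum_smul v g⁻¹ ψ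
  obtain ⟨r, hr⟩ := F_int h hs v ψ₁
  obtain ⟨s, hs'⟩ := F_int h hs v ψ₂
  have F0 : F 0 = (O G v).card := by simp [hF]
  have inv : ∀ x : V, ((O G v).card : ℂ) + r * ∑ ψ ∈ O G ψ₁, ψ (-x) + s * ∑ ψ ∈ O G ψ₂, ψ (-x) =
      if x ∈ O G v then (Fintype.card V : ℂ) else 0 := fun x => by
    rw [← inversion, T'.sum, sum_const_on ψ₁ F _ hFg, sum_const_on ψ₂ F _ hFg, ← hr, ← hs', ← F0]
    simp [hF]
  have tot : ∀ x : V, x ≠ 0 → 1 + ∑ ψ ∈ O G ψ₁, ψ (-x) + ∑ ψ ∈ O G ψ₂, ψ (-x) = 0 := fun x hx => by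
    have := AddChar.sum_apply_eq_ite (-x)
    rw [T'.sum, if_neg (neg_ne_zero.2 hx)] at this
    exact this
  have A : ((O G v).card : ℂ) + (O G ψ₁).card * r + (O G ψ₂).card * s = 0 := by
    have := inv 0
    rw [if_neg fun k => ne_of_mem T.fix hv (mem_O.1 k) rfl] at this
    simp only [neg_zero, AddChar.map_zero_eq_one, sum_const, nsmul_eq_mul, mul_one] at this
    linear_combination this
  have hneg : ∀ ψ : AddChar V ℂ, ∑ x ∈ O G v, ψ (-x) = F ψ := fun ψ => by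
    have hp := h.prime.two_le
    rw [hF, ← sum_nsmul h hs v (c := p - 1) (Nat.not_dvd_of_pos_of_lt (by omega) (by omega))]
    refine sum_congr rfl fun u _ => ?_
    rw [neg_eq_of_add_eq_zero_right (a := (p - 1) • u) (b := u) (by
      rw [← succ_nsmul, Nat.sub_add_cancel (by omega), h.exp])]
  have B : ((O G v).card : ℂ) ^ 2 + (O G ψ₁).card * r ^ 2 + (O G ψ₂).card * s ^ 2 =
      (p ^ n : ℕ) * (O G v).card := by
    have e1 := sum_congr rfl fun x (_ : x ∈ O G v) => inv x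
    rw [sum_congr rfl fun x (hx : x ∈ O G v) => if_pos hx, sum_add_distrib, sum_add_distrib, ← mul_sum,
      ← mul_sum, sum_comm, sum_comm (s := O G v)] at e1
    simp only [hneg] at e1
    have e2 := sum_const_on ψ₁ F (fun _ => 1) hFg
    have e3 := sum_const_on ψ₂ F (fun _ => 1) hFg
    simp only [mul_one, sum_const, nsmul_eq_mul] at e1 e2 e3
    rw [e2, e3, hq, show F ψ₁ = r from hr, show F ψ₂ = s from hs'] at e1
    linear_combination e1
  have C : r - s ∣ ((p ^ n : ℕ) : ℤ) := by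
    have e1 := inv v
    have e2 := inv w
    rw [if_pos (mem_O.2 (mem_orbit_self v)), hq] at e1
    rw [if_neg fun k => hvw (mem_O.1 k)] at e2
    have e3 : ((r - s : ℤ) : ℂ) * (∑ ψ ∈ O G ψ₁, ψ (-v) - ∑ ψ ∈ O G ψ₁, ψ (-w)) = ((p ^ n : ℕ) : ℤ) := by
      push_cast at e1 ⊢
      linear_combination e1 - e2 - s * tot v hv + s * tot w hw
    have hne : r - s ≠ 0 := fun k => by
      rw [k, Int.cast_zero, zero_mul, eq_comm, Int.cast_eq_zero] at e3
      exact (pow_pos h.prime.pos n).ne' (by exact_mod_cast e3)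
    obtain ⟨z, hz⟩ := exists_int ((IsIntegral.sum _ fun ψ _ => integral h ψ (-v)).sub
      (IsIntegral.sum _ fun ψ _ => integral h ψ (-w))) hne e3
    rw [hz] at e3
    exact ⟨z, by exact_mod_cast e3.symm⟩
  obtain ⟨ν, hν, k⟩ := arith h.prime h.pos (T.card.trans hq) (T'.card.trans (AddChar.card_eq.trans hq))
    (card_O (G := G) v ▸ nd _) (card_O (G := G) w ▸ nd _) (card_O (G := G) ψ₁ ▸ nd _)
    (card_O (G := G) ψ₂ ▸ nd _) (by exact_mod_cast A) (by exact_mod_cast B) C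
  have fin : ∀ M, M ∣ (O G v).card ∧ M ∣ (O G w).card → Dv G V M := fun M hM u hu => by
    rw [index_stabilizer]
    rcases hc u hu with k | k <;> rw [orbit_eq_iff.2 k, ← index_stabilizer, ← card_O]
    exacts [hM.1, hM.2]
  exact ⟨ν, hν, k.imp (fin _) (fin _)⟩

end CfsgLib.PRg
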