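import Cfsg.Agent.Lib.PRg.Bas

/-! PRG, package WT: counting eigenvectors in dimension at most four. -/

set_option autoImplicit false

namespace CfsgLib.PRg

open CfsgLib.KgT

variable {G V : Type*} [Group G] [AddCommGroup V] [DistribMulAction G V] [Finite G] [Finite V]
  {p n : ℕ}

open scoped _root_.Classical in
/-- the eigenvalues of `g` on the orbit of `v` -/
noncomputable def wtS (p : ℕ) [Fact p.Prime] [Module (ZMod p) V] (v : V) (g : G) :
    Finset (ZMod p) := Finset.univ.filter fun μ => ∃ u ∈ MulAction.orbit G v, g • u = μ • u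

omit [Finite G] [Finite V] in
theorem Sc.smul [Fact p.Prime] [Module (ZMod p) V] (hs : Sc G V p) (v : V) {μ : ZMod p}
    (h0 : μ ≠ 0) : μ • v ∈ MulAction.orbit G v := by
  have := hs v μ.val fun e => h0 (by
    rw [← ZMod.natCast_zmod_val μ]; exact (ZMod.natCast_eq_zero_iff _ _).2 e)
  rwa [← Nat.cast_smul_eq_nsmul (ZMod p), ZMod.natCast_zmod_val] at this

theorem Cp.wt_upper (h : Cp G V p n) [Fact p.Prime] [Module (ZMod p) V] (hs : Sc G V p) {v w : V}
    (hv : v ≠ 0) (hw : w ≠ 0) (ne : w ∉ MulAction.orbit G v) (g : G) :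
    (wtS p v g).card + (wtS p w g).card ≤ n := by
  classical
  have h1 := (basRep G V p g).charpoly.card_roots'
  rw [LinearMap.charpoly_natDegree, h.finrank,
    ← Multiset.sum_count_eq_card (s := Finset.univ) fun _ _ => Finset.mem_univ _] at h1
  refine le_trans ?_ h1
  rw [wtS, wtS, Finset.card_filter, Finset.card_filter, ← Finset.sum_add_distrib]
  refine Finset.sum_le_sum fun μ _ => ?_
  rw [Polynomial.count_roots]
  refine le_trans ?_ (LinearMap.finrank_eigenspace_le _ μ)
  have one : ∀ {x u : V}, x ≠ 0 → u ∈ MulAction.orbit G x → g • u = μ • u →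
      1 ≤ Module.finrank (ZMod p) (Module.End.eigenspace (basRep G V p g) μ) := fun hx hu e =>
    Submodule.one_le_finrank_iff.2 ((Submodule.ne_bot_iff _).2
      ⟨_, Module.End.mem_eigenspace_iff.2 e, bas_ne_zero hx hu⟩)
  split_ifs with a b b
  · obtain ⟨x, hx, ex⟩ := a
    obtain ⟨y, hy, ey⟩ := b
    have li : LinearIndependent (ZMod p)
        ![(⟨x, Module.End.mem_eigenspace_iff.2 ex⟩ : Module.End.eigenspace (basRep G V p g) μ),
          ⟨y, Module.End.mem_eigenspace_iff.2 ey⟩] := by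
      refine (LinearIndependent.pair_iff' fun e => bas_ne_zero hv hx (congrArg Subtype.val e)).2
        fun c e => ne ?_
      have e' : c • x = y := congrArg Subtype.val e
      have c0 : c ≠ 0 := fun e0 => bas_ne_zero hw hy (by rw [← e', e0, zero_smul])
      rw [← MulAction.orbit_eq_iff.2 hx, ← MulAction.orbit_eq_iff.2 (e' ▸ hs.smul x c0),
        MulAction.orbit_eq_iff.2 hy]
      exact MulAction.mem_orbit_self w
    simpa using li.fintype_card_le_finrank
  · obtain ⟨x, hx, ex⟩ := a
    exact one hv hx ex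
  · obtain ⟨y, hy, ey⟩ := b
    exact one hw hy ey
  · exact Nat.zero_le _

open scoped _root_.Classical in
theorem wt_lower [Fact p.Prime] [Module (ZMod p) V] [Fintype (ConjClasses G)] (hs : Sc G V p)
    {v : V} (hv : v ≠ 0) {r : ConjClasses G → G} (hr : ∀ c, ConjClasses.mk (r c) = c) :
    p - 2 ≤ ∑ c ∈ Finset.univ.erase (ConjClasses.mk (1 : G)), (wtS p v (r c)).card := by
  refine le_trans ?_ Finset.card_biUnion_le
  have h1 : ((Finset.univ.erase (0 : ZMod p)).erase 1).card = p - 2 := by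
    rw [Finset.card_erase_of_mem (by simp), Finset.card_erase_of_mem (by simp), Finset.card_univ,
      ZMod.card]
    rfl
  rw [← h1]
  refine Finset.card_le_card fun μ hμ => ?_
  simp only [Finset.mem_erase, Finset.mem_univ, and_true] at hμ
  obtain ⟨y, hy⟩ := hs.smul v hμ.2
  have hy : y • v = μ • v := hy
  obtain ⟨g, hg⟩ := isConj_iff.1 (ConjClasses.mk_eq_mk_iff_isConj.1 (hr (ConjClasses.mk y)).symm)
  refine Finset.mem_biUnion.2 ⟨ConjClasses.mk y, Finset.mem_erase.2 ⟨fun e => hμ.1 ?_,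
    Finset.mem_univ _⟩, Finset.mem_filter.2 ⟨Finset.mem_univ _, g • v, ⟨g, rfl⟩, ?_⟩⟩
  · rw [isConj_one_right.1 (ConjClasses.mk_eq_mk_iff_isConj.1 e).symm, one_smul] at hy
    exact smul_left_injective (ZMod p) hv (hy.symm.trans (one_smul _ v).symm)
  · rw [← hg, mul_smul, mul_smul, inv_smul_smul, hy]
    exact (basRep G V p g).map_smul μ v

theorem Cp.wt_aux (h : Cp G V p n) [Fact p.Prime] [Module (ZMod p) V] (hn : n ≤ 4) (ht : Tw G V)
    (hs : Sc G V p) : p ≤ 2 * kk G := by
  classical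
  obtain ⟨v, w, hv, hw, ne, -⟩ := ht
  have := Fintype.ofFinite (ConjClasses G)
  choose r hr using ConjClasses.mk_surjective (α := G)
  have h1 := Nat.add_le_add (wt_lower hs hv hr) (wt_lower hs hw hr)
  rw [← Finset.sum_add_distrib] at h1
  have h2 := h1.trans (Finset.sum_le_card_nsmul _ _ 4 fun c _ =>
    (h.wt_upper hs hv hw ne (r c)).trans hn)
  rw [Finset.card_erase_of_mem (Finset.mem_univ _), Finset.card_univ, ← Nat.card_eq_fintype_card,
    smul_eq_mul] at h2
  have h3 : 0 < kk G := Nat.card_pos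
  rw [kk] at h3 ⊢
  omega

theorem Cp.wt (h : Cp G V p n) (hn : n ≤ 4) (ht : Tw G V) (hs : Sc G V p) : p ≤ 2 * kk G :=
  have := Fact.mk h.prime
  let _ := AddCommGroup.zmodModule h.exp
  h.wt_aux hn ht hs

end CfsgLib.PRg
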