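import Cfsg.Agent.Lib.KgT.Zs
import Cfsg.Agent.Lib.Spec.Zsig

/-! PRG, package ZL: very large primitive prime divisors. -/

set_option autoImplicit false

namespace CfsgLib.PRg

open CfsgLib.KgT CfsgLib.Spec Polynomial

/-- the allowed part -/
def zlB (n : ℕ) : ℕ := (n + 1) ^ 2 * ((2 * n + 1) * ((3 * n + 1) * (4 * n + 1)))

/-- the product of `q ^ i - 1`, `1 ≤ i ≤ k` -/
noncomputable def zlP (q k : ℕ) : ℕ := Nat.rec 1 (fun i r => r * (q ^ (i + 1) - 1)) k

/-- the certificate -/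
noncomputable def zlM (q n : ℕ) : ℕ := (q ^ n - 1) / Nat.gcd (q ^ n - 1) (zlP q (n - 1) ^ 8)

theorem zl_dvd_P (q : ℕ) {i k : ℕ} (h0 : 0 < i) (h : i ≤ k) : q ^ i - 1 ∣ zlP q k := by
  induction k, h using Nat.le_induction with
  | base =>
    obtain ⟨j, rfl⟩ : ∃ j, i = j + 1 := ⟨i - 1, by omega⟩
    exact Dvd.intro_left _ rfl
  | succ k _ ih => exact ih.mul_right _

set_option maxRecDepth 100000 in
set_option synthInstance.maxSize 20000 in
set_option synthInstance.maxHeartbeats 400000 in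
theorem zl_small : ∀ n < 31, ∀ f < 31, cntCop n n = f → 3 ≤ n → ∀ a < 27, ∀ b < 100,
    11 ≤ 100 * a + b → (100 * a + b) ^ f ≤ 4 * (n * zlB n) →
      (n = 3 ∧ 100 * a + b = 16) ∨ (n = 4 ∧ 100 * a + b ∈ [13, 18, 21, 47]) ∨
        (n = 6 ∧ 100 * a + b ∈ [12, 17, 31]) ∨
        (Nat.gcd (zlM (100 * a + b) n) (zlP (100 * a + b) (n - 1)) = 1 ∧
          zlB n % zlM (100 * a + b) n ≠ 0) := by
  decide +kernel

theorem zl_tot {n : ℕ} (h : 11 ^ n.totient ≤ 4 * (n * zlB n)) : n ≤ 30 := by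
  have h1 := (le_two_mul_totient_sq n).1
  have hm : ∀ a b : ℕ, a ≤ b → 4 * (a * zlB a) ≤ 4 * (b * zlB b) := fun a b e => by
    unfold zlB
    gcongr
  have h2 : n.totient ≤ 18 := by
    by_contra h3
    have h4 : ∀ k : ℕ, 19 ≤ k → 4 * (2 * k ^ 2 * zlB (2 * k ^ 2)) < 11 ^ k := by
      intro k hk
      have h5 : ∀ k : ℕ, 19 ≤ k → 7000 * k ^ 12 < 11 ^ k := by
        intro k hk
        induction k, hk using Nat.le_induction with
        | base => norm_num
        | succ k hk ih =>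
          have h6 : (10 * (k + 1)) ^ 12 ≤ (11 * k) ^ 12 := Nat.pow_le_pow_left (by omega) 12
          rw [mul_pow, mul_pow] at h6
          rw [pow_succ 11]
          omega
      refine lt_of_le_of_lt ?_ (h5 k hk)
      have h7 : 361 ≤ k ^ 2 := by nlinarith
      rw [show k ^ 12 = (k ^ 2) ^ 6 by ring]
      generalize k ^ 2 = y at h7
      obtain ⟨z, rfl⟩ := Nat.exists_eq_add_of_le h7
      unfold zlB
      ring_nf
      omega
    have := h4 _ (not_le.1 h3)
    have := hm _ _ h1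
    omega
  have h3 : n < 649 := by nlinarith
  by_cases h5 : n < 100
  · have h4 : ∀ n < 100, 11 ^ cntCop n n ≤ 4 * (n * zlB n) → n ≤ 30 := by decide +kernel
    exact h4 n h5 (totient_eq_cntCop n ▸ h)
  · have h4 : ∀ n < 649, 100 ≤ n → 19 ≤ cntCop n 100 := by decide +kernel
    have h6 := h4 n h3 (by omega)
    have h7 : cntCop n 100 ≤ n.totient := by
      rw [cntCop_eq]
      exact Finset.card_le_card (Finset.filter_subset_filter _ (Finset.range_mono (by omega)))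
    omega

theorem zl_dvd {p ν s i : ℕ} (hp : 0 < p) (h0 : 0 < ν) (hs : Ppd p ν s)
    (h : ¬ ((4 * ν + 1 < s ∧ 1 ≤ i) ∨ (2 * ν < s ∧ 2 ≤ i) ∨ 3 ≤ i)) : s ^ i ∣ zlB ν := by
  rcases Nat.eq_zero_or_pos i with rfl | hi
  · simp
  obtain ⟨c, hc⟩ := hs.dvd_sub_one hp h0
  have h1 := hs.prime.two_le
  have h2 : c ≤ 4 := Nat.le_of_mul_le_mul_left (by omega) h0
  unfold zlB
  interval_cases c
  · omega
  · obtain rfl : s = ν + 1 := by omega
    exact (pow_dvd_pow _ (by omega)).mul_right _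
  · obtain rfl : i = 1 := by omega
    obtain rfl : s = 2 * ν + 1 := by omega
    exact ((pow_one _).dvd.mul_right _).mul_left _
  · obtain rfl : i = 1 := by omega
    obtain rfl : s = 3 * ν + 1 := by omega
    exact (((pow_one _).dvd.mul_right _).mul_left _).mul_left _
  · obtain rfl : i = 1 := by omega
    obtain rfl : s = 4 * ν + 1 := by omega
    exact (((pow_one _).dvd.mul_left _).mul_left _).mul_left _

theorem zl {p ν : ℕ} (hp : p.Prime) (h11 : 11 ≤ p) (h3 : 3 ≤ ν) (e1 : ¬ (ν = 4 ∧ p = 13))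
    (e2 : ¬ (ν = 4 ∧ p = 47)) (e3 : ¬ (ν = 6 ∧ p = 17)) (e4 : ¬ (ν = 6 ∧ p = 31)) :
    ∃ s i : ℕ, Ppd p ν s ∧ s ^ i ∣ p ^ ν - 1 ∧
      ((4 * ν + 1 < s ∧ 1 ≤ i) ∨ (2 * ν < s ∧ 2 ≤ i) ∨ 3 ≤ i) := by
  by_contra hcon
  have key : ∀ s i, Ppd p ν s → s ^ i ∣ p ^ ν - 1 → s ^ i ∣ zlB ν := fun s i hs hi =>
    zl_dvd hp.pos (by omega) hs fun e => hcon ⟨s, i, hs, hi, e⟩
  obtain ⟨Φ, hΦ⟩ := Int.eq_ofNat_of_zero_le (cyclotomic_pos h3 (p : ℤ)).le
  have hcast : ∀ i, ((p ^ i - 1 : ℕ) : ℤ) = (p : ℤ) ^ i - 1 := fun i => by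
    rw [Nat.cast_sub (Nat.one_le_pow _ _ (by omega))]; simp
  have hdvd : Φ ∣ p ^ ν - 1 := by
    have := map_dvd (evalRingHom (p : ℤ)) (cyclotomic.dvd_X_pow_sub_one ν ℤ)
    simp only [coe_evalRingHom, eval_sub, eval_pow, eval_X, eval_one, hΦ] at this
    rwa [← hcast, Int.natCast_dvd_natCast] at this
  have h5 : Φ ∣ ν * zlB ν := by
    refine (Nat.dvd_iff_prime_pow_dvd_dvd _ _).2 fun r k hr hk => ?_
    rcases Nat.eq_zero_or_pos k with rfl | hk0
    · simp
    have h := (dvd_pow_self r hk0.ne').trans hk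
    have := Fact.mk hr
    rcases prime_dvd_cyclotomic hp.two_le h3 hr (hΦ ▸ Int.natCast_dvd_natCast.2 h) with h5 | h5
    · refine (key r k ⟨hr, h.trans hdvd, fun i hi hi' h7 => ?_⟩ (hk.trans hdvd)).mul_left _
      rw [← Int.natCast_dvd_natCast, hcast, ← ZMod.intCast_zmod_eq_zero_iff_dvd] at h7
      push_cast at h7
      have := Nat.le_of_dvd hi (orderOf_dvd_of_pow_eq_one (sub_eq_zero.1 h7))
      omega
    · obtain rfl : k = 1 := by
        by_contra h6
        refine h5.2 ?_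
        rw [hΦ]
        exact_mod_cast (pow_dvd_pow r (by omega : 2 ≤ k)).trans hk
      exact ((pow_one r).dvd.trans h5.1).mul_right _
  have h6 : p ^ ν.totient ≤ 4 * (ν * zlB ν) := by
    have h7 := pow_totient_le_four_mul_cyclotomic (q := p) (by exact_mod_cast hp.two_le)
      (show 0 < ν by omega)
    rw [← map_cyclotomic_int, ← Int.cast_natCast, eval_intCast_map, eq_intCast, Int.cast_id,
      hΦ] at h7
    have h8 : p ^ ν.totient ≤ 4 * Φ := by exact_mod_cast h7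
    exact h8.trans (Nat.mul_le_mul_left _ (Nat.le_of_dvd (by unfold zlB; positivity) h5))
  have h7 : ν ≤ 30 := zl_tot ((Nat.pow_le_pow_left h11 _).trans h6)
  have h9 := ν.totient_le
  rw [totient_eq_cntCop] at h6 h9
  have h8 : p < 2700 := by
    have h9 : ∀ n < 31, 3 ≤ n → 4 * (n * zlB n) < 2700 ^ cntCop n n := by decide +kernel
    exact lt_of_pow_lt_pow_left₀ _ (by omega) (h6.trans_lt (h9 ν (by omega) h3))
  have h10 := zl_small ν (by omega) _ (by omega) rfl h3 (p / 100) (by omega) (p % 100) (by omega)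
  rw [Nat.div_add_mod] at h10
  rcases h10 h11 h6 with ⟨-, rfl⟩ | ⟨rfl, h⟩ | ⟨rfl, h⟩ | ⟨h1, h2⟩
  · norm_num at hp
  · simp only [List.mem_cons, List.not_mem_nil, or_false] at h
    rcases h with rfl | rfl | rfl | rfl <;> first | omega | exact absurd hp (by norm_num)
  · simp only [List.mem_cons, List.not_mem_nil, or_false] at h
    rcases h with rfl | rfl | rfl <;> first | omega | exact absurd hp (by norm_num)
  have hm : zlM p ν ∣ p ^ ν - 1 := Nat.div_dvd_of_dvd (Nat.gcd_dvd_left _ _)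
  refine h2 (Nat.mod_eq_zero_of_dvd ((Nat.dvd_iff_prime_pow_dvd_dvd _ _).2 fun r k hr hk => ?_))
  rcases Nat.eq_zero_or_pos k with rfl | hk0
  · simp
  have h := (dvd_pow_self r hk0.ne').trans hk
  refine key r k ⟨hr, h.trans hm, fun i hi hi' e => hr.one_lt.ne' ?_⟩ (hk.trans hm)
  exact Nat.eq_one_of_dvd_coprimes h1 h (e.trans (zl_dvd_P p hi (by omega)))

end CfsgLib.PRg
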