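import Cfsg.Agent.Lib.PRg.Eig
import Cfsg.Agent.Lib.PRg.Exp
import Cfsg.Agent.Lib.PRg.Sab
import Cfsg.Agent.Lib.PRg.Os
import Cfsg.Agent.Lib.PRg.Wt
import Cfsg.Agent.Lib.PRg.Srg
import Cfsg.Agent.Lib.PRg.Zl
import Cfsg.Agent.Lib.KgT.Main

/-! PRG, package TWO: the class number of a coprime linear group with two orbits. -/

set_option autoImplicit false

namespace CfsgLib.PRg

open CfsgLib.KgT

theorem two_sq_lt {n : ℕ} (hn : 3 ≤ n) : n ^ 2 < 5 ^ (n - 1) := by
  induction n, hn using Nat.le_induction with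
  | base => norm_num
  | succ n hn ih =>
    obtain ⟨k, rfl⟩ : ∃ k, n = k + 1 := ⟨n - 1, by omega⟩
    rw [Nat.add_sub_cancel] at ih ⊢
    rw [pow_succ 5]
    nlinarith

theorem two_four_lt {n : ℕ} (hn : 3 ≤ n) : (20 * n ^ 2) ^ 2 < 11 ^ (2 * n - 1) := by
  induction n, hn using Nat.le_induction with
  | base => norm_num
  | succ n hn ih =>
    obtain ⟨k, rfl⟩ : ∃ k, n = k + 1 := ⟨n - 1, by omega⟩
    rw [show 2 * (k + 1 + 1) - 1 = 2 * (k + 1) - 1 + 2 by omega, pow_add 11]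
    have h1 : (k + 1 + 1) ^ 2 ≤ 11 * (k + 1) ^ 2 := by nlinarith
    calc (20 * (k + 1 + 1) ^ 2) ^ 2 ≤ (20 * (11 * (k + 1) ^ 2)) ^ 2 := by gcongr
      _ = (20 * (k + 1) ^ 2) ^ 2 * 11 ^ 2 := by ring
      _ < _ := by gcongr

theorem two_mul_le {p n c q : ℕ} (hn : 0 < n) (hq : q ≤ p) (hp : 0 < p) (h : c < q ^ (n - 1)) :
    c * p ≤ p ^ n - 1 := by
  obtain ⟨m, rfl⟩ : ∃ m, n = m + 1 := ⟨n - 1, by omega⟩
  rw [Nat.add_sub_cancel] at h
  have h1 := h.trans_le (Nat.pow_le_pow_left hq m)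
  have h2 := Nat.mul_lt_mul_of_pos_right h1 hp
  rw [pow_succ]
  omega

theorem Ab.two_le {G : Type*} [Group G] [Finite G] {i p : ℕ} (h : Ab G i) (hi : 0 < i)
    (h1 : i ^ 2 * p ≤ 2 * Nat.card G) : p ≤ 2 * kk G := by
  have h2 := h.card_le
  refine Nat.le_of_mul_le_mul_left ?_ (pow_pos hi 2)
  nlinarith

variable {G V : Type*} [Group G] [AddCommGroup V] [DistribMulAction G V] [Finite G] [Finite V]
  [FaithfulSMul G V] {p n : ℕ}

theorem Cp.key (h : Cp G V p n) {M ν s i j : ℕ} (hM : Dv G V M) (hs : Ppd p ν s) (h2 : 2 ≤ ν)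
    (hn : n ≤ 2 * ν) (hN : NoN G s) (hj : n ≤ s ^ j) (hi : s ^ i ∣ M) : i ≤ j := by
  have := Fact.mk hs.prime
  obtain ⟨P⟩ : Nonempty (Sylow s G) := inferInstance
  have := h.sab hs h2 hn P P.2
  obtain ⟨v, hv, h1⟩ := h.eig_exp (P : Subgroup G) (pow_pos hs.prime.pos j) fun a ha => by
    obtain ⟨k, hk⟩ := P.2 ⟨a, ha⟩
    exact exp_of_noN h.hasRep hs.prime hN (congrArg Subtype.val hk) hj
  have h3 := hM.dvd_relIndex hi (P : Subgroup G)
    (((Nat.Prime.coprime_iff_not_dvd hs.prime).2 P.not_dvd_index).pow_left i) hv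
  exact (Nat.pow_le_pow_iff_right hs.prime.one_lt).1
    ((Nat.le_of_dvd (Nat.pos_of_ne_zero Subgroup.index_ne_zero_of_finite) h3).trans h1)

theorem Cp.nl (h : Cp G V p n) (hp : 7 ≤ p) (hn : 3 ≤ n) (hG : p ^ n - 1 ≤ 2 * Nat.card G)
    (hd : ∀ r j : ℕ, Ppd p n r → r ^ j ∣ p ^ n - 1 → r ^ j ∣ Nat.card G) : p ≤ 2 * kk G := by
  obtain ⟨r, hr, h6, h7, h8⟩ := Cfsg.Agent.S3430.result p n h.prime.two_le (by omega)
    (fun e => by omega) (fun e => by omega) (fun e => by omega) (fun e => by omega)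
  have hr' : Ppd p n r := ⟨hr, h6, h7⟩
  by_cases hN : NoN G r
  swap
  · exact (h.os1 hr' hN).two_le (by omega)
      ((two_mul_le h.pos (by omega) (by omega) (two_sq_lt hn)).trans hG)
  have h1 : r ∣ Nat.card G := by simpa using hd r 1 hr' (by simpa using h6)
  have := Fact.mk hr
  obtain ⟨P⟩ : Nonempty (Sylow r G) := inferInstance
  have h4 := hr'.succ_le h.prime.pos h.pos
  have h2 : ¬ r ^ 2 ∣ Nat.card G := fun h2 => P.ne_bot_of_dvd_card h1 (hN _
    (h.hasRep.ti (h.cab hr') P ((Nat.pow_le_pow_left h4 2).trans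
      (Nat.le_of_dvd Nat.card_pos (P.pow_dvd_card_of_pow_dvd_card h2)))) P.2)
  have h3 : n + 1 < r := h8.resolve_right fun e => h2 (hd r 2 hr' e)
  obtain ⟨c, hc⟩ := hr'.dvd_sub_one h.prime.pos h.pos
  have h5 : 2 * n + 1 ≤ r := by
    rcases c with _ | _ | c
    · omega
    · omega
    · have : n * (c + 1 + 1) = n * c + 2 * n := by ring
      omega
  rcases h.hasRep.brauer hr h1 h2 h5 with ⟨N, hNn, hc⟩ | ⟨rfl, hi⟩
  · rw [hN N hNn (IsPGroup.of_card (n := 1) (by rw [hc, pow_one])), Subgroup.card_bot] at hc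
    exact absurd hc hr.one_lt.ne
  have hZ := card_center_le_kk G
  have hZ0 : 0 < Nat.card (Subgroup.center G) := Nat.card_pos
  have hGZ := (Subgroup.center G).card_mul_index
  have hi1 : (Subgroup.center G).index = (n + 1) * ((2 * n + 1) * (2 * n)) := by
    rw [Nat.add_sub_cancel] at hi
    nlinarith
  rw [hi1] at hGZ
  have key : (n + 1) * ((2 * n + 1) * (2 * n)) * (p - 1) < p ^ n - 1 → p ≤ 2 * kk G := fun e => by
    have e1 := e.trans_le hG
    rw [← hGZ, ← mul_assoc 2, mul_comm (2 * _)] at e1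
    have := Nat.lt_of_mul_lt_mul_left e1
    omega
  have key2 : (n + 1) * ((2 * n + 1) * (2 * n)) < 7 ^ (n - 1) → p ≤ 2 * kk G := fun e =>
    key (lt_of_lt_of_le (Nat.mul_lt_mul_of_pos_left (by omega) (by positivity))
      (two_mul_le h.pos hp (by omega) e))
  by_cases h9 : 6 ≤ n
  · exact key2 ((arith_big h9).trans_le (Nat.pow_le_pow_left (by norm_num) _))
  interval_cases n
  · by_cases h13 : 13 ≤ p
    · refine key ?_
      obtain ⟨q, rfl⟩ : ∃ q, p = q + 13 := ⟨p - 13, by omega⟩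
      have : (q + 13) ^ 3 = q ^ 3 + 39 * q ^ 2 + 507 * q + 2197 := by ring
      have := Nat.zero_le (q ^ 3)
      have := Nat.zero_le (q ^ 2)
      omega
    have hp' := h.prime
    have hcop := h.cop
    have h11 : p = 11 := by
      interval_cases p
      · exact absurd h1 hcop
      all_goals first | rfl | exact absurd hp' (by norm_num)
    subst h11
    have h19 := hd 19 1 ⟨by norm_num, by norm_num, fun i _ _ => by interval_cases i <;> decide⟩
      (by norm_num)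
    rw [← hGZ] at h19
    have := Nat.le_of_dvd hZ0 (Nat.Coprime.dvd_of_dvd_mul_right (by norm_num) h19)
    omega
  · norm_num at hr
  · exact key2 (by norm_num)

theorem Cp.ls {ν : ℕ} (h : Cp G V p (2 * ν)) (h3 : 3 ≤ ν) (ht : Tw G V) (hs : Sc G V p)
    (hp : 7 ≤ p) (hM : Dv G V (p ^ ν - 1)) : p ≤ 2 * kk G := by
  obtain ⟨g, hg⟩ := h.exists_order hs
  have hd := h.dvd_card hM
  have hpr := h.prime
  by_cases h7 : p = 7
  · subst h7
    have := card_le_kk (G := G) {1, 2, 3, 6} fun m hm => ⟨g, Dvd.dvd.trans (by revert m; decide) hg⟩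
    simp at this
    omega
  have h11 : 11 ≤ p := by
    by_contra h11
    interval_cases p <;> first | exact h7 rfl | exact absurd hpr (by norm_num)
  by_cases e1 : ν = 4 ∧ p = 13
  · obtain ⟨rfl, rfl⟩ := e1
    have := Fact.mk Nat.prime_five
    have := Fact.mk Nat.prime_seven
    obtain ⟨a, ha⟩ := exists_prime_orderOf_dvd_card' (G := G) 5 (Dvd.dvd.trans (by norm_num) hd)
    obtain ⟨b, hb⟩ := exists_prime_orderOf_dvd_card' (G := G) 7 (Dvd.dvd.trans (by norm_num) hd)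
    have := card_le_kk (G := G) {1, 2, 3, 4, 6, 5, 7} fun m hm => by
      simp only [Finset.mem_insert, Finset.mem_singleton] at hm
      rcases hm with rfl | rfl | rfl | rfl | rfl | rfl | rfl
      all_goals first
        | exact ⟨a, ha.symm.dvd⟩
        | exact ⟨b, hb.symm.dvd⟩
        | exact ⟨g, Dvd.dvd.trans (by norm_num) hg⟩
    simp at this
    omega
  by_cases e2 : ν = 4 ∧ p = 47
  · obtain ⟨rfl, rfl⟩ := e2
    have := h.hall hM (m := 13 * (17 * 23)) (by norm_num) fun q hq hq' => by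
      by_contra h1
      interval_cases q <;> first | exact absurd hq' (by decide) | exact absurd hq (by decide)
    omega
  by_cases e3 : ν = 6 ∧ p = 17
  · obtain ⟨rfl, rfl⟩ := e3
    have := h.hall hM (m := 307) (by norm_num) fun q hq hq' => by
      rw [(Nat.prime_dvd_prime_iff_eq hq (by norm_num)).1 hq']
      norm_num
    omega
  by_cases e4 : ν = 6 ∧ p = 31
  · obtain ⟨rfl, rfl⟩ := e4
    have := h.hall hM (m := 331) (by norm_num) fun q hq hq' => by
      rw [(Nat.prime_dvd_prime_iff_eq hq (by norm_num)).1 hq']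
      norm_num
    omega
  obtain ⟨s, i, hs', hi, hc⟩ := zl h.prime h11 h3 e1 e2 e3 e4
  by_cases hN : NoN G s
  swap
  · exact (h.os2 (h.irr ht) hs' h3 hN).two_le (by positivity)
      ((two_mul_le h.pos h11 (by omega) (two_four_lt h3)).trans (h.card_le ht))
  exfalso
  have := Fact.mk hs'.prime
  have h4 := hs'.succ_le h.prime.pos (by omega)
  rcases hc with ⟨h1, h2⟩ | ⟨h1, h2⟩ | h2
  · obtain ⟨P⟩ : Nonempty (Sylow s G) := inferInstance
    exact P.ne_bot_of_dvd_card ((dvd_pow_self s (by omega)).trans (hi.trans hd))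
      (hN _ (h.hasRep.normal (by omega) (by omega) (by omega) P) P.2)
  · have := h.key (j := 1) hM hs' (by omega) le_rfl hN (by rw [pow_one]; omega) hi
    omega
  · have := h.key (j := 2) hM hs' (by omega) le_rfl hN (by nlinarith) hi
    omega

theorem Cp.two (h : Cp G V p n) (ht : Tw G V) (hn : 2 ≤ n) : p ≤ 2 * kk G := by
  have hG := h.card_le ht
  have hpr := h.prime
  have hk : 0 < kk G := Nat.card_pos
  by_cases h2 : p ≤ 2
  · omega
  by_cases h5 : p ≤ 6
  · have h1 : 3 ^ 2 ≤ p ^ n := (Nat.pow_le_pow_left (by omega) 2).trans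
      (Nat.pow_le_pow_right (by omega) hn)
    have := three_le_kk (G := G) (by omega)
    omega
  have hp : 7 ≤ p := by omega
  by_cases hn2 : n = 2
  · subst hn2
    obtain ⟨q, rfl⟩ : ∃ q, p = q + 7 := ⟨p - 7, by omega⟩
    have e : (q + 7) ^ 2 - 1 = q ^ 2 + 14 * q + 48 := by
      rw [show (q + 7) ^ 2 = q ^ 2 + 14 * q + 48 + 1 by ring, Nat.add_sub_cancel]
    rw [e] at hG
    have := Nat.zero_le (q ^ 2)
    rcases dim2 h.hasRep with h1 | ⟨Z, -, h1, h3⟩
    · exact h1.two_le two_pos (by omega)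
    have h4 := Z.card_mul_index
    have h6 : 2 ≤ Nat.card Z := Nat.le_of_dvd Nat.card_pos h1.two_dvd
    rcases h3 with ⟨h3, h7⟩ | ⟨h3, h7⟩ | ⟨h3, h7, -⟩ <;> rw [h3] at h4
    · omega
    · omega
    · by_cases h8 : q ≤ 11
      · omega
      · nlinarith
  have hn3 : 3 ≤ n := by omega
  have hodd : ∀ r, Ppd p n r → ∀ j, (r ^ j).Coprime 2 := fun r hr j => by
    have := hr.succ_le h.prime.pos h.pos
    exact ((Nat.coprime_primes hr.prime Nat.prime_two).2 (by omega)).pow_left j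
  rcases h.sc_or ht with hs | ⟨M, hM, hd⟩
  swap
  · exact h.nl hp hn3 hG fun r j hr e =>
      ((hodd r hr j).dvd_of_dvd_mul_left (hM ▸ e)).trans (h.dvd_card hd)
  by_cases h4 : n ≤ 4
  · exact h.wt h4 ht hs
  obtain ⟨ν, rfl, hd | hd⟩ := h.srg ht hs
  · exact h.ls (by omega) ht hs hp hd
  · refine h.nl hp hn3 hG fun r j hr e => Dvd.dvd.trans ?_ (h.dvd_card hd)
    rw [pow_mul', ← one_pow 2, Nat.sq_sub_sq] at e
    exact (((Nat.Prime.coprime_iff_not_dvd hr.prime).2
      (hr.not_dvd ν (by omega) (by omega))).pow_left j).dvd_of_dvd_mul_right e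

end CfsgLib.PRg
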