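import Cfsg.Agent.Lib.PRg.One
import Cfsg.Agent.Lib.PRg.Two
import Cfsg.Agent.Lib.PRg.Ext
import Cfsg.Agent.Lib.PRg.Aff
import Cfsg.Agent.Lib.PLocal.PSolvable
import Cfsg.Agent.Lib.Core.MinNormal

/-! PRG: from `p`-solvable groups to coprime linear groups. -/

set_option autoImplicit false

namespace CfsgLib.PRg

open CfsgLib.KgT Cfsg Subgroup

universe u

variable {X : Type u} [Group X] [Finite X] {p : ℕ}

theorem exists_V [Fact p.Prime] (hX : IsPSolvable p X) (hO : pPrimeCore p X = ⊥)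
    (hd : p ∣ Nat.card X) : ∃ V : Subgroup X, V.Normal ∧ V ≠ ⊥ ∧ (∀ a ∈ V, ∀ b ∈ V, a * b = b * a) ∧
      (∀ v ∈ V, v ^ p = 1) ∧ (¬ p ∣ V.index → centralizer (V : Set X) ≤ V) := by
  have hp : p.Prime := Fact.out
  have : Nontrivial X := by
    rw [← Finite.one_lt_card_iff_nontrivial]
    exact hp.one_lt.trans_le (Nat.le_of_dvd Nat.card_pos hd)
  have h0 : pCore p X ≠ ⊥ := (PLocal.PSolv.pCore_ne_bot_or hX).resolve_right fun h => h hO
  have hP : IsPGroup p (pCore p X) := PLocal.PSolv.isPGroup_pCore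
  have hC := PLocal.PSolv.centralizer_pCore_le hX hO
  have := PLocal.PSolv.pCore_characteristic (G := X) (p := p)
  set O := pCore p X
  have := Core.isMulCommutative_inf_centralizer O
  have hZ : (O ⊓ centralizer (O : Set X) : Subgroup X) ≠ ⊥ := by
    have : Nontrivial O := (nontrivial_iff_ne_bot _).2 h0
    have := hP.center_nontrivial
    obtain ⟨z, hz⟩ := exists_ne (1 : center O)
    intro e
    have h1 : (z : X) ∈ (O ⊓ centralizer (O : Set X) : Subgroup X) :=
      ⟨z.1.2, fun y hy => congrArg Subtype.val (mem_center_iff.1 z.2 ⟨y, hy⟩)⟩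
    rw [e] at h1
    exact hz (Subtype.ext (Subtype.ext (mem_bot.1 h1)))
  have hle := (Core.omegaOne_le p (O ⊓ centralizer (O : Set X)))
  refine ⟨omegaOne p (O ⊓ centralizer (O : Set X)), Core.omegaOne_normal _ _,
    Core.omegaOne_ne_bot_of_isPGroup (hP.to_le inf_le_left) hZ,
    fun a ha b hb => (hle hb).2 a (hle ha).1, fun v hv => Core.pow_eq_one_of_mem_omegaOne hv,
    fun hi => ?_⟩
  set V := omegaOne p (O ⊓ centralizer (O : Set X))
  have hVO : V ≤ O := hle.trans inf_le_left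
  have h1 : V.relIndex O = 1 := by
    obtain ⟨k, hk⟩ := hP.index (V.subgroupOf O)
    rcases k with _ | k
    · exact hk
    · exact absurd ((dvd_pow_self p k.succ_ne_zero).trans
        (hk ▸ (relIndex_dvd_index_of_le hVO : V.relIndex O ∣ _))) hi
  have h2 : O ≤ V := relIndex_eq_one.1 h1
  exact ((centralizer_le h2).trans hC).trans h2

theorem mem_of_pel (hp : p.Prime) (V : Subgroup X) [V.Normal] (hi : ¬ p ∣ V.index) {x : X}
    (hx : ∃ k : ℕ, orderOf x = p ^ k) : x ∈ V := by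
  obtain ⟨k, hk⟩ := hx
  rw [← QuotientGroup.eq_one_iff, ← orderOf_eq_one_iff]
  have h1 : orderOf (x : X ⧸ V) ∣ p ^ k := hk ▸ orderOf_map_dvd (QuotientGroup.mk' V) x
  exact Nat.eq_one_of_dvd_coprimes
    (((Nat.Prime.coprime_iff_not_dvd hp).2 hi).pow_left k) h1 (orderOf_dvd_natCard _)

theorem pel_of_mem (hp : p.Prime) {x : X} (hx : x ^ p = 1) : ∃ k : ℕ, orderOf x = p ^ k := by
  rcases (Nat.dvd_prime hp).1 (orderOf_dvd_of_pow_eq_one hx) with h | h
  · exact ⟨0, by rw [h, pow_zero]⟩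
  · exact ⟨1, by rw [h, pow_one]⟩

open scoped IsMulCommutative in
theorem lin (hp : p.Prime) (V H : Subgroup X) [hN : V.Normal] (h0 : V ≠ ⊥)
    (hcomm : ∀ a ∈ V, ∀ b ∈ V, a * b = b * a) (hexp : ∀ v ∈ V, v ^ p = 1) (hidx : ¬ p ∣ V.index)
    (hC : centralizer (V : Set X) ≤ V) (hH : V.IsComplement' H) :
    ∃ (W : Type u) (_ : AddCommGroup W) (_ : DistribMulAction H W) (_ : Finite W)
      (_ : FaithfulSMul H W) (n : ℕ) (e : W → X), Cp H W p n ∧ Nat.card V = p ^ n ∧
      (∀ w, w ≠ 0 → e w ≠ 1) ∧ (∀ w, e w ∈ V) ∧ (∀ v ∈ V, v ≠ 1 → ∃ w, w ≠ 0 ∧ e w = v) ∧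
      (∀ v w, IsConj (e v) (e w) ↔ ∃ h : H, h • v = w) ∧
      ∀ (h : H) w, h * e w = e w * h → h • w = w := by
  have := Fact.mk hp
  have : IsMulCommutative V := ⟨⟨fun a b => Subtype.ext (hcomm a a.2 b b.2)⟩⟩
  let act : DistribMulAction H (Additive V) :=
    { smul := fun g v => Additive.ofMul
        ⟨(g : X) * (v.toMul : V) * (g : X)⁻¹, hN.conj_mem _ v.toMul.2 _⟩
      one_smul := fun v => Additive.toMul.injective (Subtype.ext (by
        change ((1 : H) : X) * _ * ((1 : H) : X)⁻¹ = _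
        simp))
      mul_smul := fun g h v => Additive.toMul.injective (Subtype.ext (by
        change ((g * h : H) : X) * _ * ((g * h : H) : X)⁻¹ =
          (g : X) * ((h : X) * _ * (h : X)⁻¹) * (g : X)⁻¹
        simp [mul_assoc]))
      smul_zero := fun g => Additive.toMul.injective (Subtype.ext (by
        change (g : X) * ((1 : V) : X) * (g : X)⁻¹ = ((1 : V) : X)
        simp))
      smul_add := fun g v w => Additive.toMul.injective (Subtype.ext (by
        change (g : X) * ((v.toMul : X) * (w.toMul : X)) * (g : X)⁻¹ =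
          (g : X) * (v.toMul : X) * (g : X)⁻¹ * ((g : X) * (w.toMul : X) * (g : X)⁻¹)
        simp [mul_assoc])) }
  have hsm : ∀ (g : H) (v : Additive V),
      (((g • v).toMul : V) : X) = (g : X) * (v.toMul : V) * (g : X)⁻¹ := fun _ _ => rfl
  have hext : ∀ v w : Additive V, ((v.toMul : V) : X) = (w.toMul : V) → v = w := fun v w e =>
    Additive.toMul.injective (Subtype.ext e)
  have hfaith : FaithfulSMul H (Additive V) := by
    refine ⟨fun {g h} e => ?_⟩
    have hm : ((h⁻¹ * g : H) : X) ∈ V := by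
      refine hC (Subgroup.mem_centralizer_iff.2 fun y hy => ?_)
      have e1 := congrArg (fun v : Additive V => ((v.toMul : V) : X)) (e (Additive.ofMul ⟨y, hy⟩))
      simp only [hsm, toMul_ofMul] at e1
      have e2 : (h : X)⁻¹ * ((g : X) * y * (g : X)⁻¹) * g =
          (h : X)⁻¹ * (h * y * (h : X)⁻¹) * g := by
        rw [e1]
      simpa [mul_assoc] using e2.symm
    have := Subgroup.disjoint_def.1 hH.disjoint hm (h⁻¹ * g).2
    have e3 : h⁻¹ * g = 1 := Subtype.ext this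
    rw [inv_mul_eq_one] at e3
    exact e3.symm
  have hPG : IsPGroup p V := fun v => ⟨1, Subtype.ext (by simpa using hexp v v.2)⟩
  obtain ⟨n, hn⟩ := IsPGroup.iff_card.1 hPG
  have hn0 : 0 < n := by
    rcases Nat.eq_zero_or_pos n with h1 | h1
    · rw [h1, pow_zero, Subgroup.card_eq_one] at hn
      exact absurd hn h0
    · exact h1
  have hGc : Nat.card H = V.index := hH.symm.index_eq_card.symm
  have hcardA : Nat.card (Additive V) = Nat.card V := Nat.card_congr Additive.toMul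
  refine ⟨Additive V, inferInstance, act, inferInstance, hfaith, n, fun v => ((v.toMul : V) : X),
    ⟨hp, hcardA.trans hn, fun v => hext _ _ (by simpa using hexp _ v.toMul.2), hn0, hGc ▸ hidx⟩, hn,
    fun v hv e => hv (hext _ _ e), fun v => v.toMul.2,
    fun v hv h1 => ⟨Additive.ofMul ⟨v, hv⟩, fun e => h1 (congrArg
      (fun v : Additive V => ((v.toMul : V) : X)) e), rfl⟩, fun v w => ⟨fun h => ?_, ?_⟩,
    fun h w e => hext _ _ (by rw [hsm, e, mul_inv_cancel_right])⟩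
  · obtain ⟨g, hg⟩ := isConj_iff.1 h
    obtain ⟨⟨u, h⟩, rfl⟩ := hH.2 g
    refine ⟨h, hext _ _ ?_⟩
    simp only at hg
    rw [hsm, ← hg]
    have := hcomm _ u.2 _ (hN.conj_mem _ v.toMul.2 (h : X))
    simp only [mul_inv_rev]
    rw [← mul_assoc, mul_assoc (u : X), mul_assoc (u : X), this, mul_inv_cancel_right]
  · rintro ⟨h, rfl⟩
    exact isConj_iff.2 ⟨h, (hsm h v).symm⟩

theorem kp_eq (hp : p.Prime) (V H : Subgroup X) [V.Normal] (hexp : ∀ v ∈ V, v ^ p = 1)
    (hidx : ¬ p ∣ V.index) (hH : V.IsComplement' H) : kp p X = kk H := by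
  have e := KGV.card_conjClasses_congr hH.symm.QuotientMulEquiv
  refine le_antisymm ((kp_le_kk_quot hp V (Core.isPGroup_of_forall_pow_eq_one hexp) hidx).trans
    e.le) ?_
  exact e.ge.trans ((kp_eq_kk (G := X ⧸ V) hidx).ge.trans (kp_quot_le hp V))

theorem Cp.kk_one {G W : Type*} [Group G] [AddCommGroup W] [DistribMulAction G W] [Finite G]
    [Finite W] [FaithfulSMul G W] (h : Cp G W p 1) : kk G = Nat.card G := by
  have := Fact.mk h.prime
  have : IsAddCyclic W := isAddCyclic_of_prime_card (h.card.trans (pow_one p))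
  obtain ⟨w, hw⟩ := IsAddCyclic.exists_generator (α := W)
  have hc : ∀ a b : G, a * b = b * a := fun a b =>
    FaithfulSMul.eq_of_smul_eq_smul (α := W) fun v => by
      obtain ⟨i, hi⟩ := hw (a • w)
      obtain ⟨j, hj⟩ := hw (b • w)
      obtain ⟨k, rfl⟩ := hw v
      simp only at hi hj ⊢
      rw [smul_comm _ k, smul_comm _ k, mul_smul, mul_smul, ← hj, smul_comm a j, ← hi,
        smul_comm b i, ← hj, smul_comm i j]
  refine le_antisymm (kk_le G) (Nat.card_le_card_of_injective ConjClasses.mk fun a b e => ?_)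
  obtain ⟨c, rfl⟩ := isConj_iff.1 (ConjClasses.mk_eq_mk_iff_isConj.1 e)
  rw [hc c a, mul_inv_cancel_right]

/-- the conclusion for one class -/
def Con1 (p : ℕ) (X : Type u) [Group X] : Prop :=
  p ≤ kp p X ∨ (kp p X = p - 1 ∧ Nonempty (X ≃* ↥(affineGroup (ZMod p)))) ∨
    (p = 11 ∧ kp p X = 9 ∧ (Nat.card X = 121 * 120 ∧ ∃ H : Subgroup X, IsFrobeniusComplement H ∧
      Nonempty (↥H ≃* Matrix.SpecialLinearGroup (Fin 2) (ZMod 5))))

theorem base1 [Fact p.Prime] (hX : IsPSolvable p X) (hO : pPrimeCore p X = ⊥)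
    (hd : p ∣ Nat.card X) (h : OC p X) : Con1 p X := by
  have hp : p.Prime := Fact.out
  obtain ⟨V, _, h0, hcomm, hexp, hC⟩ := exists_V hX hO hd
  have hi : ¬ p ∣ V.index := fun hi => by
    obtain ⟨y, hy⟩ := exists_prime_orderOf_dvd_card' (G := X ⧸ V) p hi
    obtain ⟨x, rfl, hx⟩ := exists_lift hp V y ⟨1, by rw [hy, pow_one]⟩
    obtain ⟨⟨v, hv⟩, hv1⟩ := ne_bot_iff_exists_ne_one.1 h0
    have h1 : (x : X ⧸ V) ≠ 1 := fun e => by
      rw [e, orderOf_one] at hy
      exact hp.one_lt.ne hy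
    obtain ⟨c, rfl⟩ := isConj_iff.1 (h v x (fun e => hv1 (Subtype.ext e))
      (by rintro rfl; exact h1 rfl) (pel_of_mem hp (hexp v hv)) hx)
    exact h1 ((QuotientGroup.eq_one_iff _).2 (Normal.conj_mem ‹_› v hv c))
  obtain ⟨k, hk⟩ := IsPGroup.iff_card.1 (Core.isPGroup_of_forall_pow_eq_one hexp)
  obtain ⟨H, hH⟩ := exists_right_complement'_of_coprime (N := V)
    (hk ▸ ((Nat.Prime.coprime_iff_not_dvd hp).2 hi).pow_left k)
  obtain ⟨W, _, _, _, _, n, e, hc, hn, he1, heV, hVe, hconj, hfix⟩ :=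
    lin hp V H h0 hcomm hexp hi (hC hi) hH
  have hk := kp_eq hp V H hexp hi hH
  have htr : ∀ v w : W, v ≠ 0 → w ≠ 0 → ∃ g : H, g • v = w := fun v w hv hw =>
    (hconj v w).1 (h _ _ (he1 v hv) (he1 w hw) (pel_of_mem hp (hexp _ (heV v)))
      (pel_of_mem hp (hexp _ (heV w))))
  have hT : Tr H W p n := ⟨hp, hc.card, hc.pos, hc.cop, htr⟩
  have hXc := hH.card_mul
  by_cases hn1 : n = 1
  · subst hn1
    rw [pow_one] at hn
    obtain ⟨f, hf⟩ := exists_aff p V H hn (hC hi) hH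
    have h1 := Nat.card_le_card_of_injective f hf
    have h2 := Nat.le_of_dvd Nat.card_pos hT.dvd
    have h3 := WCor4.card_affine (F := ZMod p)
    rw [Nat.card_zmod] at h3
    rw [pow_one] at h2
    rw [h3, ← hXc, hn] at h1
    have h4 : Nat.card H = p - 1 := le_antisymm (Nat.le_of_mul_le_mul_left h1 hp.pos) h2
    refine Or.inr (Or.inl ⟨by rw [hk, hc.kk_one, h4], ⟨MulEquiv.ofBijective f ?_⟩⟩)
    exact (Nat.bijective_iff_injective_and_card f).2 ⟨hf, by rw [h3, ← hXc, hn, h4]⟩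
  have := hc.pos
  rcases hc.one htr (by omega) with h1 | ⟨rfl, rfl, h1, ⟨e1⟩⟩
  · exact Or.inl (hk ▸ h1)
  refine Or.inr (Or.inr ⟨rfl, by rw [hk, ← kk_sl25]; exact KGV.card_conjClasses_congr e1,
    by rw [← hXc, hn, h1]; norm_num, H, isFrob V H hH h0 ?_ fun g hg hg1 v hv hgv => ?_, ⟨e1⟩⟩)
  · rintro rfl
    simp at h1
  by_contra hv1
  obtain ⟨w, hw, rfl⟩ := hVe v hv hv1
  have h2 := hT.card_eq hw
  have h3 : MulAction.stabilizer H w = ⊥ := by
    rw [← Subgroup.card_eq_one]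
    omega
  have h4 : (⟨g, hg⟩ : H) ∈ MulAction.stabilizer H w := hfix ⟨g, hg⟩ w hgv
  rw [h3] at h4
  exact hg1 (congrArg Subtype.val (mem_bot.1 h4))

theorem dvd_card_quot (hp : p.Prime) (hd : p ∣ Nat.card X) :
    p ∣ Nat.card (X ⧸ pPrimeCore p X) :=
  ((Nat.Prime.dvd_mul hp).1 ((pPrimeCore p X).card_mul_index ▸ hd)).resolve_left
    ((Nat.Prime.coprime_iff_not_dvd hp).1 PLocal.PSolv.coprime_card_pPrimeCore.symm)

theorem con1 [Fact p.Prime] (hX : IsPSolvable p X) (hd : p ∣ Nat.card X) (h : OC p X) :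
    Con1 p X := by
  have hp : p.Prime := Fact.out
  by_cases hO : pPrimeCore p X = ⊥
  · exact base1 hX hO hd h
  have := PLocal.PSolv.pPrimeCore_characteristic (G := X) (p := p)
  have hN := (Nat.Prime.coprime_iff_not_dvd hp).1
    (PLocal.PSolv.coprime_card_pPrimeCore (G := X) (p := p)).symm
  have h1 := kp_quot_lt hp _ hO hN
  rcases base1 (PLocal.PSolv.quotient hX _) PLocal.PSolv.pPrimeCore_quotient (dvd_card_quot hp hd)
    (h.quot hp _) with h2 | ⟨h2, -⟩ | ⟨rfl, h2, h3, H, h4, ⟨e⟩⟩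
  · exact Or.inl (by omega)
  · exact Or.inl (by omega)
  · exact Or.inl (ext11 _ hO hN h3 H h4 e h2)

theorem oc_lt [Fact p.Prime] (hX : IsPSolvable p X) (hd : p ∣ Nat.card X) (h : OC p X) :
    p - 1 < 2 * kp p X := by
  have := (Fact.out : p.Prime).two_le
  rcases con1 hX hd h with h1 | ⟨h1, -⟩ | ⟨h1, h2, -⟩ <;> omega

/-- the conclusion for two classes -/
def Con2 (p : ℕ) (X : Type u) [Group X] : Prop :=
  p - 1 < 2 * kp p X ∨ (2 * kp p X = p - 1 ∧ p ≠ 2 ∧ 2 * Nat.card X = p * (p - 1) ∧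
    ∃ f : X →* ↥(affineGroup (ZMod p)), Function.Injective f)

theorem base2 [Fact p.Prime] (hX : IsPSolvable p X) (hO : pPrimeCore p X = ⊥)
    (hd : p ∣ Nat.card X) (h : TC p X) : Con2 p X := by
  have hp : p.Prime := Fact.out
  by_cases hoc : OC p X
  · exact Or.inl (oc_lt hX hd hoc)
  obtain ⟨V, _, h0, hcomm, hexp, hC⟩ := exists_V hX hO hd
  have hV := Core.isPGroup_of_forall_pow_eq_one hexp
  by_cases hi : p ∣ V.index
  · have h1 := oc_lt (PLocal.PSolv.quotient hX V) hi (h.oc_quot hp V h0 hV)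
    have h2 := kp_quot_le hp V
    exact Or.inl (by omega)
  obtain ⟨k, hk⟩ := IsPGroup.iff_card.1 hV
  obtain ⟨H, hH⟩ := exists_right_complement'_of_coprime (N := V)
    (hk ▸ ((Nat.Prime.coprime_iff_not_dvd hp).2 hi).pow_left k)
  obtain ⟨W, _, _, _, _, n, e, hc, hn, he1, heV, hVe, hconj, -⟩ :=
    lin hp V H h0 hcomm hexp hi (hC hi) hH
  have hk := kp_eq hp V H hexp hi hH
  have ht : Tw H W := by
    unfold OC at hoc
    push Not at hoc
    obtain ⟨x, y, hx1, hy1, hx, hy, hxy⟩ := hoc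
    obtain ⟨v, hv, rfl⟩ := hVe x (mem_of_pel hp V hi hx) hx1
    obtain ⟨w, hw, rfl⟩ := hVe y (mem_of_pel hp V hi hy) hy1
    obtain ⟨a, b, hab⟩ := h
    refine ⟨v, w, hv, hw, fun e => hxy ((hconj v w).2 e), fun u hu => ?_⟩
    refine Or.imp (hconj v u).1 (hconj w u).1 ?_
    rcases hab _ (he1 u hu) (pel_of_mem hp (hexp _ (heV u))) with h1 | h1 <;>
      rcases hab _ hx1 hx with h2 | h2 <;> rcases hab _ hy1 hy with h3 | h3
    all_goals first
      | exact Or.inl (h2.trans h1.symm)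
      | exact Or.inr (h3.trans h1.symm)
      | exact absurd (h2.trans h3.symm) hxy
  have := hp.two_le
  by_cases hn1 : n = 1
  · subst hn1
    rw [pow_one] at hn
    have h1 := hc.card_le ht
    rw [pow_one, ← hc.kk_one, ← hk] at h1
    refine h1.lt_or_eq.imp_right fun h2 => ⟨h2.symm, by omega, ?_, exists_aff p V H hn (hC hi) hH⟩
    rw [← hH.card_mul, hn, h2, hk, hc.kk_one]
    ring
  have := hc.pos
  have h1 := hc.two ht (by omega)
  exact Or.inl (by omega)

theorem con2 [Fact p.Prime] (hX : IsPSolvable p X) (hd : p ∣ Nat.card X) (h : TC p X) :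
    Con2 p X := by
  have hp : p.Prime := Fact.out
  by_cases hO : pPrimeCore p X = ⊥
  · exact base2 hX hO hd h
  have := PLocal.PSolv.pPrimeCore_characteristic (G := X) (p := p)
  have hN := (Nat.Prime.coprime_iff_not_dvd hp).1
    (PLocal.PSolv.coprime_card_pPrimeCore (G := X) (p := p)).symm
  have h1 := kp_quot_lt hp _ hO hN
  rcases base2 (PLocal.PSolv.quotient hX _) PLocal.PSolv.pPrimeCore_quotient (dvd_card_quot hp hd)
    (h.quot hp _) with h2 | ⟨h2, -⟩ <;> exact Or.inl (by omega)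

end CfsgLib.PRg
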