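import Cfsg.Agent.Lib.PRg.Bas
import Cfsg.Agent.Lib.PRg.Dim2
import Cfsg.Agent.Lib.KgT.Main
import Cfsg.Agent.S0689

/-! PRG, package ONE: the class number of a transitive coprime linear group. -/

set_option autoImplicit false

namespace CfsgLib.PRg

open CfsgLib.KgT

/-- quadruples of determinant one -/
def oneS : Finset (ZMod 5 × ZMod 5 × ZMod 5 × ZMod 5) :=
  Finset.univ.filter fun x => x.1 * x.2.2.2 - x.2.1 * x.2.2.1 = 1

/-- commuting quadruples -/
def oneC (x y : ZMod 5 × ZMod 5 × ZMod 5 × ZMod 5) : Prop :=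
  x.2.1 * y.2.2.1 = y.2.1 * x.2.2.1 ∧ x.1 * y.2.1 + x.2.1 * y.2.2.2 = y.1 * x.2.1 + y.2.1 * x.2.2.2 ∧
    x.2.2.1 * y.1 + x.2.2.2 * y.2.2.1 = y.2.2.1 * x.1 + y.2.2.2 * x.2.2.1

instance oneDec (x y : ZMod 5 × ZMod 5 × ZMod 5 × ZMod 5) : Decidable (oneC x y) := by
  unfold oneC
  infer_instance

set_option maxRecDepth 100000 in
theorem one_count : ((oneS ×ˢ oneS).filter fun x => oneC x.1 x.2).card = 1080 := by
  decide +kernel

theorem one_comm (a b : Matrix.SpecialLinearGroup (Fin 2) (ZMod 5)) :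
    Commute a b ↔ oneC (a 0 0, a 0 1, a 1 0, a 1 1) (b 0 0, b 0 1, b 1 0, b 1 1) := by
  rw [Commute, SemiconjBy, Matrix.SpecialLinearGroup.ext_iff]
  simp only [oneC, Fin.forall_fin_two, Matrix.SpecialLinearGroup.coe_mul, Matrix.mul_apply,
    Fin.sum_univ_two]
  constructor
  · rintro ⟨⟨h1, h2⟩, h3, -⟩
    exact ⟨by linear_combination h1, h2, h3⟩
  · rintro ⟨h1, h2, h3⟩
    exact ⟨⟨by linear_combination h1, h2⟩, h3, by linear_combination -h1⟩

set_option maxRecDepth 100000 in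
theorem kk_sl25 : kk (Matrix.SpecialLinearGroup (Fin 2) (ZMod 5)) = 9 := by
  have h := card_comm_eq_card_conjClasses_mul_card (Matrix.SpecialLinearGroup (Fin 2) (ZMod 5))
  have hS : ∀ a : Matrix.SpecialLinearGroup (Fin 2) (ZMod 5),
      (a 0 0, a 0 1, a 1 0, a 1 1) ∈ oneS := fun a => by
    exact Finset.mem_filter.2 ⟨Finset.mem_univ _, (Matrix.det_fin_two _).symm.trans a.2⟩
  have hI : ∀ a b : Matrix.SpecialLinearGroup (Fin 2) (ZMod 5),
      (a 0 0, a 0 1, a 1 0, a 1 1) = (b 0 0, b 0 1, b 1 0, b 1 1) → a = b := fun a b e => by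
    simp only [Prod.mk.injEq] at e
    rw [Matrix.SpecialLinearGroup.ext_iff]
    simp only [Fin.forall_fin_two]
    tauto
  have hU : ∀ x ∈ oneS, ∃ a : Matrix.SpecialLinearGroup (Fin 2) (ZMod 5),
      (a 0 0, a 0 1, a 1 0, a 1 1) = x := fun x hx =>
    ⟨⟨!![x.1, x.2.1; x.2.2.1, x.2.2.2],
      (Matrix.det_fin_two_of _ _ _ _).trans (Finset.mem_filter.1 hx).2⟩, rfl⟩
  have h1 : Nat.card {p : Matrix.SpecialLinearGroup (Fin 2) (ZMod 5) ×
      Matrix.SpecialLinearGroup (Fin 2) (ZMod 5) // Commute p.1 p.2} = 1080 := by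
    rw [← one_count, ← Nat.card_eq_finsetCard]
    refine Nat.card_congr (Equiv.ofBijective (fun p => ⟨((p.1.1 0 0, p.1.1 0 1, p.1.1 1 0, p.1.1 1 1),
      (p.1.2 0 0, p.1.2 0 1, p.1.2 1 0, p.1.2 1 1)), Finset.mem_filter.2
        ⟨Finset.mem_product.2 ⟨hS _, hS _⟩, (one_comm _ _).1 p.2⟩⟩) ⟨fun p q e => ?_, ?_⟩)
    · have e1 := congrArg Subtype.val e
      exact Subtype.ext (Prod.ext (hI _ _ (congrArg Prod.fst e1)) (hI _ _ (congrArg Prod.snd e1)))
    · rintro ⟨⟨x, y⟩, hxy⟩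
      obtain ⟨h2, h3⟩ := Finset.mem_filter.1 hxy
      obtain ⟨a, rfl⟩ := hU x (Finset.mem_product.1 h2).1
      obtain ⟨b, rfl⟩ := hU y (Finset.mem_product.1 h2).2
      exact ⟨⟨(a, b), (one_comm _ _).2 h3⟩, rfl⟩
  rw [h1, FrobCompl.card_SL25] at h
  unfold kk
  omega

theorem one_sq_lt {n : ℕ} (hn : 3 ≤ n) : n ^ 2 < 5 ^ (n - 1) := by
  induction n, hn using Nat.le_induction with
  | base => norm_num
  | succ n hn ih =>
    obtain ⟨k, rfl⟩ : ∃ k, n = k + 1 := ⟨n - 1, by omega⟩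
    rw [Nat.add_sub_cancel] at ih ⊢
    rw [pow_succ 5]
    nlinarith

variable {G V : Type*} [Group G] [AddCommGroup V] [DistribMulAction G V] [Finite G] [Finite V]
  [FaithfulSMul G V] {p n : ℕ}

theorem one_gam (h : Tr G V p n) (hp : 5 ≤ p) (hn : 3 ≤ n) : Gam G V := by
  by_cases h5 : p = 5 ∧ n = 6
  · obtain ⟨rfl, rfl⟩ := h5
    exact h.six ⟨by norm_num, by norm_num, fun i _ _ => by interval_cases i <;> decide⟩
      (s := 31) (by norm_num) (by norm_num) (by norm_num) (by norm_num) (by norm_num)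
      (by norm_num)
  obtain ⟨r, hr, h6, h7, h8⟩ := Cfsg.Agent.S3430.result p n h.prime.two_le (by omega)
    (fun e => by omega) (fun e => by omega) (fun e => by omega) h5
  have hr' : Ppd p n r := ⟨hr, h6, h7⟩
  by_cases h2 : r ^ 2 ∣ Nat.card G
  · exact h.gam_of_sq hr' h2
  · exact h.gam_of_big hn (by omega) hr' (h8.resolve_right fun e => h2 (e.trans h.dvd)) h2

omit [Finite G] in
theorem one_ab (h : Tr G V p n) (hg : Gam G V) : Ab G n := by
  obtain ⟨F, _, _, e, hg⟩ := hg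
  have hnt := h.nontrivial
  let _ : Module F V := e.module F
  have hsm : ∀ (c : F) (v : V), e (c • v) = c * e v := fun c v => by
    change e (e.symm (c • e v)) = _
    rw [e.apply_symm_apply, smul_eq_mul]
  obtain ⟨σ, hσ⟩ := CfsgLib.Perm.exists_ringAut_hom (G := G) (V := V) (K := F) fun g c => by
    obtain ⟨a, τ, hτ⟩ := hg g
    refine ⟨τ c, fun v => e.injective ?_⟩
    rw [hτ, hsm, hsm, hτ, map_mul]
    ring
  have hv1 : ∀ v : V, v = e v • e.symm 1 := fun v => e.injective (by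
    rw [hsm, e.apply_symm_apply, mul_one])
  have ha : ∀ g ∈ σ.ker, ∀ v : V, g • v = e (g • e.symm 1) • v := fun g hgA v => by
    have hg1 : σ g = 1 := hgA
    apply e.injective
    conv_lhs => rw [hv1 v, hσ, hg1]
    rw [hsm, hsm, mul_comm]
    rfl
  obtain ⟨q, _, ⟨d, hd⟩, hq, hK⟩ := FiniteField.card' F
  rw [PNat.mk_coe] at hK
  have hVK : p ^ n = q ^ d := by
    rw [← h.card, Nat.card_congr e.toEquiv, Nat.card_eq_fintype_card, hK]
  obtain rfl : q = p := (Nat.prime_dvd_prime_iff_eq hq h.prime).1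
    (hq.dvd_of_dvd_pow (hVK ▸ dvd_pow_self q hd.ne'))
  obtain rfl : n = d := Nat.pow_right_injective hq.two_le hVK
  refine ⟨σ.ker, ⟨⟨fun a b => Subtype.ext (FaithfulSMul.eq_of_smul_eq_smul (α := V) fun v => ?_)⟩⟩,
    ?_⟩
  · rw [Subgroup.coe_mul, Subgroup.coe_mul, mul_smul, mul_smul, ha _ a.2, ha _ b.2 v,
      ha _ b.2 ((a : G) • v), ha _ a.2 v, smul_comm]
  · rw [Subgroup.index_ker]
    have : Finite (RingAut F) := Finite.of_injective (fun f : RingAut F => (f : F → F))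
      DFunLike.coe_injective
    exact (Subgroup.card_le_card_group _).trans (CfsgLib.Perm.card_ringAut_le hq hK)

theorem Cp.one (h : Cp G V p n) (htr : ∀ v w : V, v ≠ 0 → w ≠ 0 → ∃ g : G, g • v = w)
    (hn : 2 ≤ n) : p ≤ kk G ∨ (p = 11 ∧ n = 2 ∧ Nat.card G = 120 ∧
      Nonempty (G ≃* Matrix.SpecialLinearGroup (Fin 2) (ZMod 5))) := by
  have hT : Tr G V p n := ⟨h.prime, h.card, h.pos, h.cop, htr⟩
  have hd := hT.dvd
  have hG := Nat.le_of_dvd Nat.card_pos hd
  have hpr := h.prime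
  have h2 := hpr.two_le
  by_cases h3 : p ≤ 3
  · have h1 : 2 ^ 2 ≤ p ^ n := (Nat.pow_le_pow_left h2 2).trans (Nat.pow_le_pow_right (by omega) hn)
    have := three_le_kk (G := G) (by omega)
    exact Or.inl (by omega)
  have h5 : 5 ≤ p := hpr.five_le_of_ne_two_of_ne_three (by omega) (by omega)
  by_cases hn2 : n = 2
  swap
  · have h1 := (one_ab hT (one_gam hT h5 (by omega))).card_le
    obtain ⟨m, rfl⟩ : ∃ m, n = m + 1 := ⟨n - 1, by omega⟩
    have h4 := (one_sq_lt (n := m + 1) (by omega)).trans_le (Nat.pow_le_pow_left h5 _)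
    have h6 := Nat.mul_lt_mul_of_pos_right h4 hpr.pos
    rw [Nat.add_sub_cancel, ← pow_succ] at h6
    exact Or.inl (Nat.le_of_mul_le_mul_left (by omega) (pow_pos (by omega : 0 < m + 1) 2))
  subst hn2
  have hcop := h.cop
  obtain ⟨q, rfl⟩ : ∃ q, p = q + 5 := ⟨p - 5, by omega⟩
  have e : (q + 5) ^ 2 - 1 = q ^ 2 + 10 * q + 24 := by
    rw [show (q + 5) ^ 2 = q ^ 2 + 10 * q + 24 + 1 by ring, Nat.add_sub_cancel]
  rw [e] at hG
  have := Nat.zero_le (q ^ 2)
  rcases dim2 h.hasRep with h1 | ⟨Z, -, h1, h4⟩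
  · have := h1.card_le
    exact Or.inl (by omega)
  have h6 := Z.card_mul_index
  obtain ⟨z, hz⟩ := h1
  have h7 : 0 < Nat.card Z := Nat.card_pos
  have hq1 : q ≠ 1 := by rintro rfl; exact absurd hpr (by norm_num)
  rcases h4 with ⟨h4, h8⟩ | ⟨h4, h8⟩ | ⟨h4, h8, h9⟩ <;> rw [h4] at h6
  · exact Or.inl (by omega)
  · refine Or.inl ?_
    by_cases h0 : q ≤ 2
    · omega
    · nlinarith
  by_cases h0 : q + 5 ≤ kk G
  · exact Or.inl h0
  have h10 : q = 6 := by
    by_cases h11 : q ≤ 11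
    · interval_cases q <;> first | omega | exact absurd hpr (by norm_num)
    · nlinarith
  subst h10
  have h11 : Nat.card G = 120 := by omega
  have := Fact.mk hpr
  let _ := AddCommGroup.zmodModule h.exp
  have := h.nontrivial
  have hF : FrobCompl.HasFree ℂ G := FrobCompl.hasFree_of_module (ZMod (6 + 5))
    (DistribMulAction.toAddMonoidEnd G V) fun g hg v e => by_contra fun hv => by
      have h12 := hT.card_eq hv
      have h13 : MulAction.stabilizer G v = ⊥ := by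
        rw [← Subgroup.card_eq_one]
        omega
      exact hg (Subgroup.mem_bot.1 (h13.le (e : g ∈ MulAction.stabilizer G v)))
  obtain ⟨φ, hφ, -⟩ := hF.exists_normal_SL25 h9
  exact Or.inr ⟨rfl, rfl, h11, ⟨(MulEquiv.ofBijective φ ((Nat.bijective_iff_injective_and_card φ).2
    ⟨hφ, by rw [h11, FrobCompl.card_SL25]⟩)).symm⟩⟩

end CfsgLib.PRg
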