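import Cfsg.Agent.Lib.PRg.Defs
import Cfsg.Agent.Lib.Fgs.ClassSize
import Cfsg.Agent.Lib.Coprime.SchurZassenhaus

/-! PRG, package RED: `p`-regular classes and quotients. -/

set_option autoImplicit false
set_option linter.unusedSectionVars false

namespace CfsgLib.PRg

open CfsgLib.KgT Subgroup

variable {G : Type*} [Group G] [Finite G] {p : ℕ}

omit [Finite G] in
theorem red_one (hp : p.Prime) {x : G} {k : ℕ} (h1 : orderOf x ∣ p ^ k) (h2 : ¬ p ∣ orderOf x) : x = 1 :=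
  orderOf_eq_one_iff.1 ((((Nat.Prime.coprime_iff_not_dvd hp).2 h2).symm.pow_right k).eq_one_of_dvd h1)

theorem red_parts (hp : p.Prime) (N : Subgroup G) [N.Normal] (y : G ⧸ N) :
    ∃ a b : G, (a : G ⧸ N) * b = y ∧ (∃ k, orderOf a = p ^ k) ∧ ¬ p ∣ orderOf b ∧
      orderOf (a : G ⧸ N) ∣ orderOf y ∧ orderOf (b : G ⧸ N) ∣ orderOf y := by
  have := Fact.mk hp
  obtain ⟨x, rfl⟩ := QuotientGroup.mk_surjective y
  obtain ⟨a, b, ha, hb, e, -, h1, h2⟩ := Fgs.exists_p_part p x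
  have k : ∀ c ∈ zpowers x, orderOf (c : G ⧸ N) ∣ orderOf (x : G ⧸ N) := by
    rintro _ ⟨n, rfl⟩
    exact orderOf_dvd_of_mem_zpowers ⟨n, rfl⟩
  exact ⟨a, b, congrArg _ e, h1, h2, k a ha, k b hb⟩

theorem red_lift (hp : p.Prime) (N : Subgroup G) [N.Normal] (y : G ⧸ N) (hy : ¬ p ∣ orderOf y) :
    ∃ x : G, (x : G ⧸ N) = y ∧ ¬ p ∣ orderOf x := by
  obtain ⟨a, b, e, ⟨k, hk⟩, h2, h3, -⟩ := red_parts hp N y
  rw [red_one hp (hk ▸ orderOf_map_dvd (QuotientGroup.mk' N) a) fun h => hy (h.trans h3), one_mul] at e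
  exact ⟨b, e, h2⟩

/-- the map on the `p`-regular classes -/
def redMap (p : ℕ) (N : Subgroup G) [N.Normal]
    (c : {c : ConjClasses G // ∃ g : G, ConjClasses.mk g = c ∧ ¬ p ∣ orderOf g}) :
    {c : ConjClasses (G ⧸ N) // ∃ g, ConjClasses.mk g = c ∧ ¬ p ∣ orderOf g} :=
  ⟨ConjClasses.map (QuotientGroup.mk' N) c.1, by
    obtain ⟨_, g, rfl, hg⟩ := c
    exact ⟨g, rfl, fun h => hg (h.trans (orderOf_map_dvd (QuotientGroup.mk' N) g))⟩⟩

theorem redMap_surj (hp : p.Prime) (N : Subgroup G) [N.Normal] : Function.Surjective (redMap p N) := by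
  rintro ⟨_, y, rfl, hy⟩
  obtain ⟨x, rfl, hx⟩ := red_lift hp N y hy
  exact ⟨⟨_, x, rfl, hx⟩, rfl⟩

theorem kp_eq_kk (h : ¬ p ∣ Nat.card G) : kp p G = kk G :=
  Nat.card_congr (Equiv.subtypeUnivEquiv fun c =>
    let ⟨g, hg⟩ := c.exists_rep; ⟨g, hg, fun k => h (k.trans (orderOf_dvd_natCard g))⟩)

theorem kp_quot_le (hp : p.Prime) (N : Subgroup G) [N.Normal] : kp p (G ⧸ N) ≤ kp p G :=
  Nat.card_le_card_of_surjective _ (redMap_surj hp N)

theorem kp_quot_lt (hp : p.Prime) (N : Subgroup G) [N.Normal] (h0 : N ≠ ⊥)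
    (hN : ¬ p ∣ Nat.card N) : kp p (G ⧸ N) < kp p G := by
  refine lt_of_le_of_ne (kp_quot_le hp N) fun e => ?_
  have bij := (Nat.bijective_iff_surjective_and_card _).2 ⟨redMap_surj hp N, e.symm⟩
  obtain ⟨⟨n, hn⟩, n1⟩ := ne_bot_iff_exists_ne_one.1 h0
  have := bij.1 (a₁ := ⟨_, 1, rfl, by simpa using hp.ne_one⟩)
    (a₂ := ⟨_, n, rfl, fun k => hN (k.trans (orderOf_dvd_natCard N hn))⟩)
    (Subtype.ext (congrArg ConjClasses.mk ((QuotientGroup.eq_one_iff n).2 hn).symm))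
  exact n1 (Subtype.ext (isConj_one_right.1 (ConjClasses.mk_eq_mk_iff_isConj.1 (congrArg Subtype.val this))))

theorem red_conj (hp : p.Prime) (V : Subgroup G) [V.Normal] (hV : IsPGroup p V) {x y : G} (hx : ¬ p ∣ orderOf x)
    (hy : ¬ p ∣ orderOf y) (e : (x : G ⧸ V) = y) : IsConj x y := by
  have := Fact.mk hp
  obtain ⟨n, hn⟩ := IsPGroup.iff_card.1 hV
  obtain ⟨v, hv, k⟩ := Coprime.exists_conj_smul_le_of_le_sup (K := V) (A := zpowers x) (S := zpowers y)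
    (by rw [normalizer_eq_top]; exact le_top) (zpowers_le.2 (by
      have := mul_mem (mem_sup_right (mem_zpowers y) : y ∈ V ⊔ zpowers y) (mem_sup_left (QuotientGroup.eq.1 e.symm))
      rwa [mul_inv_cancel_left] at this))
    (by rw [hn, Nat.card_zpowers]; exact ((Nat.Prime.coprime_iff_not_dvd hp).2 hx).symm.pow_right n)
    (.inl inferInstance)
  have m := mul_mem (inv_mem (mem_zpowers y)) (Coprime.conj_smul_le_iff.1 k x (mem_zpowers x))
  have m2 : y⁻¹ * (v * x * v⁻¹) ∈ V := QuotientGroup.eq.1 (by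
    rw [QuotientGroup.mk_mul, QuotientGroup.mk_mul, QuotientGroup.mk_inv, (QuotientGroup.eq_one_iff v).2 hv, e]
    simp)
  exact isConj_iff.2 ⟨v, (inv_mul_eq_one.1 (red_one hp (hn ▸ orderOf_dvd_natCard V m2)
    fun h => hy (h.trans (orderOf_dvd_of_mem_zpowers m)))).symm⟩

set_option linter.unusedVariables false in
theorem kp_le_kk_quot (hp : p.Prime) (V : Subgroup G) [V.Normal] (hV : IsPGroup p V)
    (hi : ¬ p ∣ V.index) : kp p G ≤ kk (G ⧸ V) := by
  refine Nat.card_le_card_of_injective (fun c => (redMap p V c).1) ?_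
  rintro ⟨_, x, rfl, hx⟩ ⟨_, y, rfl, hy⟩ e
  obtain ⟨g, hg⟩ := isConj_iff.1 (ConjClasses.mk_eq_mk_iff_isConj.1 e)
  obtain ⟨g, rfl⟩ := QuotientGroup.mk_surjective g
  exact Subtype.ext (ConjClasses.mk_eq_mk_iff_isConj.2 ((isConj_iff.2 ⟨g, rfl⟩).trans
    (red_conj hp V hV (by rwa [← MulAut.conj_apply, MulEquiv.orderOf_eq]) hy hg)))

theorem exists_lift (hp : p.Prime) (N : Subgroup G) [N.Normal] (y : G ⧸ N)
    (hy : ∃ k : ℕ, orderOf y = p ^ k) :
    ∃ x : G, (x : G ⧸ N) = y ∧ ∃ k : ℕ, orderOf x = p ^ k := by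
  obtain ⟨a, b, e, h1, h2, -, h3⟩ := red_parts hp N y
  obtain ⟨k, hk⟩ := hy
  rw [red_one (x := (b : G ⧸ N)) hp (hk ▸ h3) fun h => h2 (h.trans (orderOf_map_dvd (QuotientGroup.mk' N) b)), mul_one] at e
  exact ⟨a, e, h1⟩

theorem OC.quot (hp : p.Prime) (h : OC p G) (N : Subgroup G) [N.Normal] : OC p (G ⧸ N) := fun x y x1 y1 hx hy => by
  obtain ⟨a, rfl, ha⟩ := exists_lift hp N x hx
  obtain ⟨b, rfl, hb⟩ := exists_lift hp N y hy
  exact (QuotientGroup.mk' N).map_isConj (h a b (fun e => x1 (e ▸ rfl)) (fun e => y1 (e ▸ rfl)) ha hb)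

theorem TC.quot (hp : p.Prime) (h : TC p G) (N : Subgroup G) [N.Normal] : TC p (G ⧸ N) := by
  obtain ⟨a, b, h⟩ := h
  refine ⟨a, b, fun x x1 hx => ?_⟩
  obtain ⟨c, rfl, hc⟩ := exists_lift hp N x hx
  exact (h c (fun e => x1 (e ▸ rfl)) hc).imp (QuotientGroup.mk' N).map_isConj (QuotientGroup.mk' N).map_isConj

theorem TC.oc_quot (hp : p.Prime) (h : TC p G) (V : Subgroup G) [V.Normal] (h0 : V ≠ ⊥)
    (hV : IsPGroup p V) : OC p (G ⧸ V) := fun x y x1 y1 hx hy => by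
  have := Fact.mk hp
  obtain ⟨a, b, h⟩ := h
  obtain ⟨c, rfl, hc⟩ := exists_lift hp V x hx
  obtain ⟨d, rfl, hd⟩ := exists_lift hp V y hy
  obtain ⟨⟨v, hv⟩, v1⟩ := ne_bot_iff_exists_ne_one.1 h0
  have no : ∀ u : G, (u : G ⧸ V) ≠ 1 → ¬ IsConj v u := fun u u1 k => by
    obtain ⟨g, rfl⟩ := isConj_iff.1 k
    exact u1 ((QuotientGroup.eq_one_iff _).2 (‹V.Normal›.conj_mem v hv g))
  have h1 := h c (fun e => x1 (e ▸ rfl)) hc
  have h2 := h d (fun e => y1 (e ▸ rfl)) hd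
  refine (QuotientGroup.mk' V).map_isConj ?_
  rcases h v (fun e => v1 (Subtype.ext e)) (Fgs.orderOf_eq_pow_of_mem_isPGroup hV hv) with k | k
  · exact (h1.resolve_left fun m => no c x1 (k.trans m.symm)).trans
      (h2.resolve_left fun m => no d y1 (k.trans m.symm)).symm
  · exact (h1.resolve_right fun m => no c x1 (k.trans m.symm)).trans
      (h2.resolve_right fun m => no d y1 (k.trans m.symm)).symm

set_option linter.unusedVariables false in
theorem tc_of_card (hp : p.Prime)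
    (h : Nat.card {c : ConjClasses G // ∃ g : G, ConjClasses.mk g = c ∧
      ∃ k : ℕ, orderOf g = p ^ k} = 3) : TC p G ∧ p ∣ Nat.card G := by
  classical
  have := Fintype.ofFinite {c : ConjClasses G // ∃ g : G, ConjClasses.mk g = c ∧ ∃ k : ℕ, orderOf g = p ^ k}
  let o : {c : ConjClasses G // ∃ g : G, ConjClasses.mk g = c ∧ ∃ k : ℕ, orderOf g = p ^ k} :=
    ⟨_, 1, rfl, 0, by simp⟩
  obtain ⟨⟨_, a, rfl, k, ha⟩, ⟨_, b, rfl, hb⟩, -, e⟩ := Finset.card_eq_two.1 (show (Finset.univ.erase o).card = 2 by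
    rw [Finset.card_erase_of_mem (Finset.mem_univ _), Finset.card_univ, ← Nat.card_eq_fintype_card, h])
  refine ⟨⟨a, b, fun x x1 hx => ?_⟩, ?_⟩
  · have := e.le (Finset.mem_erase.2 ⟨fun m => x1 (isConj_one_left.1 (ConjClasses.mk_eq_mk_iff_isConj.1
      (congrArg Subtype.val m))), Finset.mem_univ (⟨_, x, rfl, hx⟩ : {c : ConjClasses G // _})⟩)
    exact (Finset.mem_insert.1 this).imp (fun m => ConjClasses.mk_eq_mk_iff_isConj.1 (congrArg Subtype.val m))
      fun m => ConjClasses.mk_eq_mk_iff_isConj.1 (congrArg Subtype.val (Finset.mem_singleton.1 m))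
  · refine (dvd_pow_self p fun k0 => ?_).trans (ha ▸ orderOf_dvd_natCard a)
    rw [k0, pow_zero, orderOf_eq_one_iff] at ha
    exact (Finset.mem_erase.1 (e.ge (Finset.mem_insert_self _ _))).1 (Subtype.ext (congrArg ConjClasses.mk ha))

theorem two_mul_kp_le (hp : p.Prime) (h : 2 * Nat.card G = p * (p - 1)) (h2 : p ≠ 2) :
    2 * kp p G ≤ p - 1 := by
  have := Fact.mk hp
  obtain ⟨P⟩ : Nonempty (Sylow p G) := inferInstance
  have d : p ∣ Nat.card P := P.dvd_card_of_dvd_card (((Nat.coprime_primes hp Nat.prime_two).2 h2).dvd_of_dvd_mul_left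
    (h ▸ dvd_mul_right _ _))
  have i : 2 * (P : Subgroup G).index ≤ p - 1 := by
    have := Nat.le_of_dvd Nat.card_pos d
    rw [← (P : Subgroup G).card_mul_index] at h
    exact Nat.le_of_mul_le_mul_left (by nlinarith) hp.pos
  have n1 : Nat.card (Sylow p G) = 1 := by
    have h3 := Nat.le_of_dvd (Nat.pos_of_ne_zero index_ne_zero_of_finite) P.card_dvd_index
    have h4 : Nat.card (Sylow p G) % p = 1 % p := card_sylow_modEq_one p G
    rwa [Nat.mod_eq_of_lt hp.one_lt, Nat.mod_eq_of_lt (by have := hp.pos; omega)] at h4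
  have := (Nat.card_eq_one_iff_unique.1 n1).1
  have := P.normal_of_subsingleton
  exact (Nat.mul_le_mul_left 2 ((kp_le_kk_quot hp _ P.isPGroup' P.not_dvd_index).trans
    (Nat.card_le_card_of_surjective _ ConjClasses.mk_surjective))).trans i

end CfsgLib.PRg
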